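import Mathlib
import Cfsg.Prelude.Def_Blocks
import Cfsg.Prelude.Def_CharExt
import Cfsg.Agent.Characters.Core
import Cfsg.Agent.Characters.GaloisIrr
import Cfsg.Agent.CharactersDeep.ExtUnique
import Cfsg.Agent.CharDeep.IrrEquiv
import Cfsg.Agent.Blocks.Basic
import Cfsg.Agent.S4455
import Cfsg.Agent.S0966
import Cfsg.Agent.S0867
import Cfsg.Agent.H685.Alperin

/-!
# Characters over `O^p(G)` with cyclic quotient fixed by `σ₁`
-/

set_option autoImplicit false
set_option linter.unusedSectionVars false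

namespace Cfsg.Agent.H685.SigmaOne

open Cfsg Cfsg.Agent.Blocks.Local Cfsg.Agent.Characters.Core
open Cfsg.Agent.CharactersDeep.ExtUnique
open Cfsg.Agent.Blocks.Basic (charDegree_of_eq irr_one_eq_charDegree charDegree_pos)
open scoped ComplexConjugate

universe u

/-- The determinantal character of `g ↦ χ (g ^ k)`. -/
theorem detChar_pow {G : Type u} [Group G] [Finite G] {χ : G → ℂ} (hχ : IsIrrCharacter G χ)
    {k : ℕ} (hk : k.Coprime (Nat.card G)) (g : G) :
    detChar (fun x => χ (x ^ k)) g = detChar χ g ^ k := by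
  obtain ⟨m, ρ', hρ', h'⟩ := Characters.GaloisIrr.isIrr_pow hk hχ
  obtain ⟨n, ρ, hρ, rfl⟩ := hχ
  rw [← h', detChar_of_rep ρ' hρ', detChar_of_rep ρ hρ]
  let C : Subgroup G := Subgroup.zpowers g
  let φ : C →* G :=
    { toFun := fun x => (x : G) ^ k
      map_one' := by simp
      map_mul' := by
        intro x y
        have : Commute (x : G) (y : G) := by
          obtain ⟨i, hi⟩ := Subgroup.mem_zpowers_iff.1 x.2
          obtain ⟨j, hj⟩ := Subgroup.mem_zpowers_iff.1 y.2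
          rw [← hi, ← hj]
          exact (Commute.refl g).zpow_zpow i j
        rw [Subgroup.coe_mul, this.mul_pow] }
  let τ' : Representation ℂ C (Fin m → ℂ) := MonoidHom.comp ρ' C.subtype
  let τ : Representation ℂ C (Fin n → ℂ) := MonoidHom.comp ρ φ
  have hch : τ'.character = τ.character := by
    funext x
    have h1 := congrFun h' (x : G)
    exact h1
  obtain ⟨e⟩ := nonempty_equiv_of_character_eq τ' τ hch
  have h2 := CharDeep.IrrEquiv.det_eq_of_equiv _ _ e ⟨g, Subgroup.mem_zpowers g⟩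
  have h3 : LinearMap.det (ρ' g) = LinearMap.det (ρ (g ^ k)) := h2
  show LinearMap.det (ρ' g) = LinearMap.det (ρ g) ^ k
  rw [h3, map_pow, map_pow]

/-- Homomorphisms of a cyclic group to `ℂˣ` killed by `p`. -/
theorem card_hom {Q : Type*} [Group Q] [Finite Q] [IsCyclic Q] {p : ℕ} [hp : Fact p.Prime]
    (h : p ∣ Nat.card Q) : Nat.card {f : Q →* ℂˣ // ∀ q, f q ^ p = 1} = p := by
  obtain ⟨g, hg⟩ := IsCyclic.exists_generator (α := Q)
  have : NeZero p := ⟨hp.out.ne_zero⟩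
  have h1 : Nat.card (rootsOfUnity p ℂ) = p := Complex.card_rootsOfUnity p
  refine (Nat.card_congr (Equiv.ofBijective
    (fun f => (⟨f.1 g, by rw [mem_rootsOfUnity]; exact f.2 g⟩ : rootsOfUnity p ℂ))
      ⟨?_, ?_⟩)).trans h1
  · intro f f' hff
    apply Subtype.ext
    have h2 : f.1 g = f'.1 g := congrArg Subtype.val hff
    exact (MonoidHom.eq_iff_eq_on_generator hg _ _).2 h2
  · intro z
    have hz : (z : ℂˣ) ^ p = 1 := (mem_rootsOfUnity p (z : ℂˣ)).1 z.2
    have hd : orderOf (z : ℂˣ) ∣ orderOf g := by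
      rw [orderOf_eq_card_of_forall_mem_zpowers hg]
      exact (orderOf_dvd_of_pow_eq_one hz).trans h
    refine ⟨⟨monoidHomOfForallMemZpowers hg hd, fun q => ?_⟩, ?_⟩
    · obtain ⟨i, hi⟩ := Subgroup.mem_zpowers_iff.1 (hg q)
      rw [← hi, map_zpow, monoidHomOfForallMemZpowers_apply_gen, ← zpow_natCast, ← zpow_mul,
        mul_comm, zpow_mul, zpow_natCast, hz, one_zpow]
    · apply Subtype.ext
      exact monoidHomOfForallMemZpowers_apply_gen hg hd

section residual

variable {G : Type u} [Group G] [Finite G] {p : ℕ} [hp : Fact p.Prime]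

/-- Determinantal orders of characters of `O^p(G)` are prime to `p`. -/
theorem not_dvd_detOrder {N : Subgroup G} (hN : N = pResidual p G) (θ : IrrCharacter N) :
    ¬ p ∣ detOrder (θ : N → ℂ) := by
  subst hN
  have hNN := S4455.pResidual_pResidual (G := G) p
  obtain ⟨δ, hδ⟩ := exists_hom_detChar θ.2
  obtain ⟨m, hm, hm'⟩ := S4455.orderOf_hom_coprime p hNN δ
  have h1 : detOrder (θ : pResidual p G → ℂ) ∣ m := by
    show orderOf (detChar (θ : pResidual p G → ℂ)) ∣ m
    rw [orderOf_dvd_iff_pow_eq_one]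
    funext n
    rw [Pi.pow_apply, hδ, Pi.one_apply, ← Units.val_pow_eq_pow_val, hm', Units.val_one]
  exact fun h => hm (h.trans h1)

theorem index_coprime {N : Subgroup G} (hN : N = pResidual p G) {m : ℕ} (hm : ¬ p ∣ m) :
    Nat.Coprime N.index m := by
  subst hN
  obtain ⟨k, hk⟩ := Transfer.Residual.exists_index_pResidual_eq_pow (G := G) p
  rw [hk]
  exact Nat.Coprime.pow_left k ((hp.out.coprime_iff_not_dvd).2 hm)

/-- A character of degree prime to the index restricts irreducibly. -/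
theorem isIrr_restrict {N : Subgroup G} [N.Normal] (χ : IrrCharacter G)
    (hcop : Nat.Coprime N.index (charDegree (χ : G → ℂ))) :
    IsIrrCharacter N (fun n : N => (χ : G → ℂ) n) := by
  have := Fintype.ofFinite N
  have := Fintype.ofFinite G
  have hchar : IsCharacter N (fun n : N => (χ : G → ℂ) n) :=
    Characters.Clifford.isCharacter_restrict N (isIrr_isCharacter χ.2)
  obtain ⟨θ, hθ, hθ'⟩ := S4455.exists_constituent hchar (isIrr_apply_one_ne_zero χ.2)
  obtain ⟨h1, h2⟩ := S0887.result N χ.1 χ.2 θ hθ hθ' (charDegree χ.1) (charDegree θ)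
    (irr_one_eq_charDegree χ.2) (irr_one_eq_charDegree hθ)
  obtain ⟨c, hc⟩ := h1
  have hθpos := charDegree_pos hθ
  have h3 : charDegree χ.1 / charDegree θ = c := by
    rw [hc, Nat.mul_div_cancel_left _ hθpos]
  rw [h3] at h2
  have h4 : c = 1 := by
    have h5 : Nat.Coprime N.index c := Nat.Coprime.coprime_dvd_right ⟨charDegree θ, by
      rw [hc, mul_comm]⟩ hcop
    have : c ∣ 1 := by
      rw [← h5]; exact Nat.dvd_gcd h2 dvd_rfl
    exact Nat.dvd_one.1 this
  have h5 : (fun n : N => (χ : G → ℂ) n) = θ := by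
    apply S4455.eq_of_degree_eq hchar hθ hθ'
    show χ.1 1 = θ 1
    rw [irr_one_eq_charDegree χ.2, irr_one_eq_charDegree hθ, hc, h4, mul_one]
  rw [h5]; exact hθ

/-- Invariance under a Sylow subgroup is invariance under `G`. -/
theorem invariant_of_sylow {N : Subgroup G} [hNn : N.Normal] (hN : N = pResidual p G)
    (P : Sylow p G) {θ : N → ℂ} (hθ : IsIrrCharacter N θ)
    (h : ∀ x ∈ (P : Subgroup G), ∀ n : N, θ ⟨x * n * x⁻¹, hNn.conj_mem n n.2 x⟩ = θ n)
    (g : G) (n : N) : θ ⟨g * n * g⁻¹, hNn.conj_mem n n.2 g⟩ = θ n := by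
  have hg : g ∈ N ⊔ (P : Subgroup G) := by
    rw [hN, Transfer.Residual.pResidual_sup_sylow P]
    trivial
  rw [← SetLike.mem_coe, Subgroup.normal_mul] at hg
  obtain ⟨m, hm, x, hx, rfl⟩ := Set.mem_mul.1 hg
  have h1 := h x hx n
  have h2 := isIrr_isClassFunction hθ ⟨x * n * x⁻¹, hNn.conj_mem n n.2 x⟩ ⟨m, hm⟩
  rw [h1] at h2
  rw [← h2]
  congr 1
  apply Subtype.ext
  show m * x * n * (m * x)⁻¹ = m * (x * n * x⁻¹) * m⁻¹
  group

/-- The unique canonical extension. -/
theorem exists_canonical {N : Subgroup G} [hNn : N.Normal] (hN : N = pResidual p G)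
    (θ : IrrCharacter N) (hdeg : ¬ p ∣ charDegree (θ : N → ℂ))
    (hinv : ∀ (g : G) (n : N), (θ : N → ℂ) ⟨g * n * g⁻¹, hNn.conj_mem n n.2 g⟩ = (θ : N → ℂ) n) :
    ∃ χ : IrrCharacter G, (∀ n : N, (χ : G → ℂ) n = (θ : N → ℂ) n) ∧
      ¬ p ∣ detOrder (χ : G → ℂ) ∧
      ∀ χ' : G → ℂ, IsIrrCharacter G χ' → (∀ n : N, χ' n = (θ : N → ℂ) n) →
        ¬ p ∣ detOrder χ' → χ' = (χ : G → ℂ) := by
  obtain ⟨ξ, ⟨h1, h2, h3⟩, h4⟩ := S0867.result N (θ : N → ℂ) θ.2 hinv
    (charDegree (θ : N → ℂ)) (irr_one_eq_charDegree θ.2)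
    (Nat.Coprime.mul_right (index_coprime hN (not_dvd_detOrder hN θ)) (index_coprime hN hdeg))
  refine ⟨⟨ξ, h1⟩, h2, ?_, ?_⟩
  · show ¬ p ∣ detOrder ξ
    rw [h3]; exact not_dvd_detOrder hN θ
  · intro χ' h5 h6 h7
    exact h4 χ' h5 h6 (index_coprime hN h7)

theorem detOrder_pow_dvd {χ : G → ℂ} (hχ : IsIrrCharacter G χ) {k : ℕ}
    (hk : k.Coprime (Nat.card G)) : detOrder (fun x => χ (x ^ k)) ∣ detOrder χ := by
  show orderOf (detChar (fun x => χ (x ^ k))) ∣ orderOf (detChar χ)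
  rw [orderOf_dvd_iff_pow_eq_one]
  have h := pow_orderOf_eq_one (detChar χ)
  funext g
  rw [Pi.pow_apply, detChar_pow hχ hk, ← pow_mul, mul_comm, pow_mul]
  have h2 := congrFun h g
  rw [Pi.pow_apply, Pi.one_apply] at h2
  rw [h2, one_pow, Pi.one_apply]

/-- The exponent is prime to the group order. -/
theorem coprime_card {k : ℕ}
    (hk₁ : ∀ g : G, (∃ j : ℕ, orderOf g = p ^ j) → g ^ k = g ^ (1 + p))
    (hk₂ : ∀ g : G, Nat.Coprime (orderOf g) p → g ^ k = g) : k.Coprime (Nat.card G) := by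
  rw [Nat.coprime_comm]
  rw [Nat.coprime_iff_gcd_eq_one] 
  by_contra hne
  obtain ⟨q, hq, hqd⟩ := Nat.exists_prime_and_dvd hne
  have hqG : q ∣ Nat.card G := hqd.trans (Nat.gcd_dvd_left _ _)
  have hqk : q ∣ k := hqd.trans (Nat.gcd_dvd_right _ _)
  have := Fact.mk hq
  obtain ⟨g, hg⟩ := exists_prime_orderOf_dvd_card' (G := G) q hqG
  have h1 : g ^ k = 1 := by
    obtain ⟨c, rfl⟩ := hqk
    rw [pow_mul, ← hg, pow_orderOf_eq_one, one_pow]
  have h2 : g ^ k = g := by
    by_cases hqp : q = p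
    · subst hqp
      rw [hk₁ g ⟨1, by rw [hg, pow_one]⟩, pow_add, pow_one]
      have : g ^ q = 1 := by rw [← hg, pow_orderOf_eq_one]
      rw [this, mul_one]
    · exact hk₂ g (by rw [hg]; exact (Nat.coprime_primes hq hp.out).2 hqp)
  rw [h1] at h2
  rw [← h2, orderOf_one] at hg
  exact hq.one_lt.ne hg

/-- Extensions of principal block characters lie in the principal block. -/
theorem mem_principalBlock_of_restrict {M : Ideal AlgInt} (hM : IsPModular p M) {N : Subgroup G}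
    [N.Normal] (hidx : ∃ k : ℕ, N.index = p ^ k) (χ : IrrCharacter G) (θ : IrrCharacter N)
    (hθ : θ ∈ principalBlock M N) (h : ∀ n : N, (χ : G → ℂ) n = (θ : N → ℂ) n) :
    χ ∈ principalBlock M G := by
  have := isPrime_of_isPModular hM
  have := Fintype.ofFinite G
  have := Fintype.ofFinite N
  obtain ⟨B, -, hB⟩ := S0966.result p M hM N hidx (principalBlock M N)
    Blocks.PrincipalSection.isPBlock_principalBlock
  have h1 := hB (principalBlock M G) ⟨Blocks.PrincipalSection.isPBlock_principalBlock, _,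
    Blocks.PrincipalSection.one_mem_principalBlock, _,
    Blocks.PrincipalSection.one_mem_principalBlock, by
      show classInner (fun n : N => (1 : ℂ)) (fun n : N => (1 : ℂ)) ≠ 0
      have := classInner_irr_self (isIrr_one (G := N))
      rw [show (fun n : N => (1 : ℂ)) = (1 : N → ℂ) from rfl, this]
      exact one_ne_zero⟩
  have h2 := hB (blockOf M (χ : G → ℂ)) ⟨Blocks.Basic.isPBlock_blockOf χ, χ,
    Blocks.Basic.mem_blockOf_self χ, θ, hθ, by
      rw [show (fun n : N => (χ : G → ℂ) n) = (θ : N → ℂ) from funext h,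
        classInner_irr_self θ.2]
      exact one_ne_zero⟩
  rw [h1, ← h2]
  exact Blocks.Basic.mem_blockOf_self χ

/-- If `χ f = χ f'` for linear characters with the same prime-to-degree torsion, then `f = f'`. -/
theorem hom_eq_of_mul_eq {χ : G → ℂ} (hχ : IsIrrCharacter G χ) (f f' : G →* ℂˣ)
    {q : ℕ} (hq : q.Coprime (charDegree χ)) (h : ∀ g, χ g * f g = χ g * f' g)
    (hf : ∀ g, f g ^ q = 1) (hf' : ∀ g, f' g ^ q = 1) : f = f' := by
  have h1 := detChar_mul_hom hχ (irr_one_eq_charDegree hχ) f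
  have h2 := detChar_mul_hom hχ (irr_one_eq_charDegree hχ) f'
  rw [funext h, h2] at h1
  obtain ⟨δ, hδ⟩ := exists_hom_detChar hχ
  ext1 g
  have h3 := congrFun h1 g
  simp only [hδ] at h3
  have h4 : f' g ^ charDegree χ = f g ^ charDegree χ := by
    have h5 := mul_left_cancel₀ (Units.ne_zero (δ g)) h3
    exact_mod_cast h5
  have h5 : (f g * (f' g)⁻¹) ^ charDegree χ = 1 := by
    rw [mul_pow, inv_pow, h4, mul_inv_cancel]
  have h6 : (f g * (f' g)⁻¹) ^ q = 1 := by
    rw [mul_pow, inv_pow, hf, hf', inv_one, mul_one]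
  have h7 : f g * (f' g)⁻¹ = 1 := by
    have h8 := orderOf_dvd_of_pow_eq_one h5
    have h9 := orderOf_dvd_of_pow_eq_one h6
    have h10 : orderOf (f g * (f' g)⁻¹) ∣ 1 := by
      rw [← hq]; exact Nat.dvd_gcd h9 h8
    exact orderOf_eq_one_iff.1 (Nat.dvd_one.1 h10)
  exact mul_inv_eq_one.1 h7

theorem pow_eq {N : Subgroup G} [hNn : N.Normal] (hN : N = pResidual p G) {k : ℕ}
    (hk₁ : ∀ g : G, (∃ j : ℕ, orderOf g = p ^ j) → g ^ k = g ^ (1 + p)) (f : G →* ℂˣ)
    (hf : ∀ n ∈ N, f n = 1) (g : G) : f g ^ k = f g ^ (1 + p) := by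
  have P : Sylow p G := default
  have hg : g ∈ N ⊔ (P : Subgroup G) := by
    rw [hN, Transfer.Residual.pResidual_sup_sylow P]
    trivial
  rw [← SetLike.mem_coe, Subgroup.normal_mul] at hg
  obtain ⟨m, hm, x, hx, rfl⟩ := Set.mem_mul.1 hg
  rw [map_mul, hf m hm, one_mul, ← map_pow, ← map_pow, hk₁ x ?_]
  obtain ⟨j, hj⟩ := (IsPGroup.iff_orderOf.1 P.isPGroup') ⟨x, hx⟩
  exact ⟨j, by rw [← hj, Subgroup.orderOf_mk]⟩

/-- The canonical extension of a fixed character is fixed. -/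
theorem canonical_fixed {N : Subgroup G} [hNn : N.Normal] {k : ℕ}
    (hk : k.Coprime (Nat.card G)) (θ : IrrCharacter N) (χ : IrrCharacter G)
    (h1 : ∀ n : N, (χ : G → ℂ) n = (θ : N → ℂ) n) (h2 : ¬ p ∣ detOrder (χ : G → ℂ))
    (h3 : ∀ χ' : G → ℂ, IsIrrCharacter G χ' → (∀ n : N, χ' n = (θ : N → ℂ) n) →
        ¬ p ∣ detOrder χ' → χ' = (χ : G → ℂ))
    (hθ : ∀ n : N, (θ : N → ℂ) (n ^ k) = (θ : N → ℂ) n) (g : G) :
    (χ : G → ℂ) (g ^ k) = (χ : G → ℂ) g := by
  have h4 := h3 (fun x => (χ : G → ℂ) (x ^ k)) (Characters.GaloisIrr.isIrr_pow hk χ.2)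
    (fun n => by
      have := h1 (n ^ k)
      rw [Subgroup.coe_pow] at this
      rw [this, hθ])
    (fun h => h2 (h.trans (detOrder_pow_dvd χ.2 hk)))
  exact congrFun h4 g

theorem main {M : Ideal AlgInt} (hM : IsPModular p M) (P : Sylow p G) (N : Subgroup G)
    [hN : N.Normal] (hNres : N = pResidual p G) (hcyc : IsCyclic (G ⧸ N)) (hnt : N ≠ ⊤) (k : ℕ)
    (hk₁ : ∀ g : G, (∃ j : ℕ, orderOf g = p ^ j) → g ^ k = g ^ (1 + p))
    (hk₂ : ∀ g : G, Nat.Coprime (orderOf g) p → g ^ k = g) :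
    Nat.card {χ : IrrCharacter G // χ ∈ principalBlock M G ∧ ¬ p ∣ charDegree (χ : G → ℂ) ∧
      ∀ g : G, (χ : G → ℂ) (g ^ k) = (χ : G → ℂ) g} =
    p * Nat.card {θ : IrrCharacter N // θ ∈ principalBlock M N ∧
      ¬ p ∣ charDegree (θ : N → ℂ) ∧ (∀ x ∈ (P : Subgroup G), ∀ n : N,
        (θ : N → ℂ) ⟨x * n * x⁻¹, hN.conj_mem n n.2 x⟩ = (θ : N → ℂ) n) ∧
      ∀ n : N, (θ : N → ℂ) (n ^ k) = (θ : N → ℂ) n} := by
  classical
  have hk := coprime_card hk₁ hk₂
  have hidx : ∃ a : ℕ, N.index = p ^ a := by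
    subst hNres
    exact Transfer.Residual.exists_index_pResidual_eq_pow (G := G) p
  obtain ⟨a, ha⟩ := hidx
  have hpd : p ∣ Nat.card (G ⧸ N) := by
    rw [← Subgroup.index_eq_card, ha]
    refine dvd_pow_self p ?_
    rintro rfl
    rw [pow_zero, Subgroup.index_eq_one] at ha
    exact hnt ha
  have hΛ := card_hom (Q := G ⧸ N) hpd
  set Λ := {f : G ⧸ N →* ℂˣ // ∀ q, f q ^ p = 1} with hΛdef
  set A := {χ : IrrCharacter G // χ ∈ principalBlock M G ∧ ¬ p ∣ charDegree (χ : G → ℂ) ∧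
      ∀ g : G, (χ : G → ℂ) (g ^ k) = (χ : G → ℂ) g} with hA
  set B := {θ : IrrCharacter N // θ ∈ principalBlock M N ∧
      ¬ p ∣ charDegree (θ : N → ℂ) ∧ (∀ x ∈ (P : Subgroup G), ∀ n : N,
        (θ : N → ℂ) ⟨x * n * x⁻¹, hN.conj_mem n n.2 x⟩ = (θ : N → ℂ) n) ∧
      ∀ n : N, (θ : N → ℂ) (n ^ k) = (θ : N → ℂ) n} with hB
  have hcan : ∀ θ : B, ∃ χ : IrrCharacter G, (∀ n : N, (χ : G → ℂ) n = (θ.1 : N → ℂ) n) ∧
      ¬ p ∣ detOrder (χ : G → ℂ) ∧
      ∀ χ' : G → ℂ, IsIrrCharacter G χ' → (∀ n : N, χ' n = (θ.1 : N → ℂ) n) →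
        ¬ p ∣ detOrder χ' → χ' = (χ : G → ℂ) := fun θ =>
    exists_canonical hNres θ.1 θ.2.2.1 (invariant_of_sylow hNres P θ.1.2 θ.2.2.2.1)
  choose c hc1 hc2 hc3 using hcan
  have hcfix : ∀ (θ : B) (g : G), (c θ : G → ℂ) (g ^ k) = (c θ : G → ℂ) g := fun θ =>
    canonical_fixed hk θ.1 (c θ) (hc1 θ) (hc2 θ) (hc3 θ) θ.2.2.2.2
  have hcdeg : ∀ θ : B, charDegree (c θ : G → ℂ) = charDegree (θ.1 : N → ℂ) := by
    intro θ
    apply charDegree_of_eq
    rw [← irr_one_eq_charDegree θ.1.2]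
    exact hc1 θ 1
  -- inflation of linear characters
  let F : Λ → (G →* ℂˣ) := fun f => f.1.comp (QuotientGroup.mk' N)
  have hF1 : ∀ (f : Λ) (n : G), n ∈ N → F f n = 1 := by
    intro f n hn
    show f.1 (n : G ⧸ N) = 1
    rw [(QuotientGroup.eq_one_iff n).2 hn, map_one]
  have hFp : ∀ (f : Λ) (g : G), F f g ^ p = 1 := fun f g => f.2 _
  let Φ : B × Λ → A := fun x => ⟨⟨fun g => (c x.1 : G → ℂ) g * F x.2 g,
    isIrr_mul_hom (c x.1).2 (F x.2)⟩, by
      have hres : ∀ n : N, (c x.1 : G → ℂ) n * F x.2 n = (x.1.1 : N → ℂ) n := by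
        intro n
        rw [hF1 x.2 n n.2, Units.val_one, mul_one, hc1]
      refine ⟨mem_principalBlock_of_restrict hM ⟨a, ha⟩ _ x.1.1 x.1.2.1 hres, ?_, ?_⟩
      · show ¬ p ∣ charDegree (fun g => (c x.1 : G → ℂ) g * F x.2 g)
        have : charDegree (fun g => (c x.1 : G → ℂ) g * F x.2 g) = charDegree (x.1.1 : N → ℂ) := by
          apply charDegree_of_eq
          rw [← irr_one_eq_charDegree x.1.1.2]
          exact hres 1
        rw [this]
        exact x.1.2.2.1
      · intro g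
        show (c x.1 : G → ℂ) (g ^ k) * F x.2 (g ^ k) = (c x.1 : G → ℂ) g * F x.2 g
        rw [hcfix, map_pow, pow_eq hNres hk₁ (F x.2) (hF1 x.2), pow_add, pow_one, hFp, mul_one]⟩
  have hΦ : ∀ x g, ((Φ x).1 : G → ℂ) g = (c x.1 : G → ℂ) g * F x.2 g := fun _ _ => rfl
  have hΦN : ∀ x (n : N), ((Φ x).1 : G → ℂ) n = (x.1.1 : N → ℂ) n := by
    intro x n
    rw [hΦ, hF1 x.2 n n.2, Units.val_one, mul_one, hc1]
  have hbij : Function.Bijective Φ := by
    constructor
    · rintro ⟨θ, f⟩ ⟨θ', f'⟩ hxy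
      have h1 : θ = θ' := by
        apply Subtype.ext
        apply Subtype.ext
        funext n
        rw [← hΦN (θ, f) n, ← hΦN (θ', f') n, hxy]
      subst h1
      have h2 : F f = F f' := by
        refine hom_eq_of_mul_eq (c θ).2 (F f) (F f') (q := p) ?_ ?_ (hFp f) (hFp f')
        · rw [hcdeg]
          exact (hp.out.coprime_iff_not_dvd).2 θ.2.2.1
        · intro g
          rw [← hΦ (θ, f) g, ← hΦ (θ, f') g, hxy]
      have h3 : f = f' := by
        apply Subtype.ext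
        refine MonoidHom.ext fun q => ?_
        obtain ⟨g, rfl⟩ := QuotientGroup.mk_surjective q
        exact congrArg (fun φ : G →* ℂˣ => φ g) h2
      rw [h3]
    · intro χ
      have hcop := index_coprime hNres χ.2.2.1
      have hirr := isIrr_restrict χ.1 hcop
      have hdeg : charDegree (fun n : N => (χ.1 : G → ℂ) n) = charDegree (χ.1 : G → ℂ) := by
        apply charDegree_of_eq
        rw [← irr_one_eq_charDegree χ.1.2]
        rfl
      let θ : B := ⟨⟨fun n : N => (χ.1 : G → ℂ) n, hirr⟩,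
        Alperin.restrict_mem hM χ.2.1 hirr, by
          show ¬ p ∣ charDegree (fun n : N => (χ.1 : G → ℂ) n)
          rw [hdeg]; exact χ.2.2.1, fun x _ n => isIrr_isClassFunction χ.1.2 (n : G) x,
          fun n => by
            show (χ.1 : G → ℂ) ((n ^ k : N) : G) = (χ.1 : G → ℂ) n
            rw [Subgroup.coe_pow, χ.2.2.2]⟩
      obtain ⟨β, hβN, hβ⟩ := exists_hom_mul_of_restrict_eq N (isIrr_isCharacter (c θ).2)
        (isIrr_isCharacter χ.1.2) hirr (hc1 θ) (fun _ => rfl)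
      have hβa : ∀ g, β g ^ (p ^ a) = 1 := by
        intro g
        rw [← map_pow]
        apply hβN
        rw [← ha]
        exact Subgroup.pow_index_mem N g
      have hβp : ∀ g, β g ^ p = 1 := by
        have h1 : β ^ (1 + p) = β := by
          refine hom_eq_of_mul_eq (c θ).2 (β ^ (1 + p)) β (q := p ^ a) ?_ ?_ ?_ hβa
          · rw [hcdeg]
            exact Nat.Coprime.pow_left a ((hp.out.coprime_iff_not_dvd).2 θ.2.2.1)
          · intro g
            rw [MonoidHom.pow_apply, ← pow_eq hNres hk₁ β hβN, ← hβ g, ← χ.2.2.2 g, hβ (g ^ k),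
              hcfix, map_pow]
          · intro g
            rw [MonoidHom.pow_apply, ← pow_mul, mul_comm, pow_mul, hβa, one_pow]
        intro g
        have h2 := congrArg (fun φ : G →* ℂˣ => φ g) h1
        simp only [MonoidHom.pow_apply] at h2
        rw [pow_add, pow_one] at h2
        exact mul_left_cancel (h2.trans (mul_one _).symm)
      refine ⟨(θ, ⟨QuotientGroup.lift N β hβN, ?_⟩), ?_⟩
      · intro q
        obtain ⟨g, rfl⟩ := QuotientGroup.mk_surjective q
        exact hβp g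
      · apply Subtype.ext
        apply Subtype.ext
        funext g
        rw [hΦ, hβ g]
        rfl
  rw [← Nat.card_congr (Equiv.ofBijective Φ hbij), Nat.card_prod, hΛ, mul_comm]

end residual

end Cfsg.Agent.H685.SigmaOne
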