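import Mathlib

/-!
# The structure of a minimal counterexample
-/

set_option autoImplicit false
set_option linter.unusedSectionVars false

namespace Cfsg.Agent.H685.Acd

open Subgroup
open scoped commutatorElement

variable {G : Type*} [Group G]

theorem le_normalizer_of {A K : Subgroup G} (hA : ∀ a ∈ A, ∀ k ∈ K, a * k * a⁻¹ ∈ K) :
    A ≤ normalizer (K : Set G) := by
  intro a ha
  rw [mem_normalizer_iff]
  intro k
  refine ⟨fun hk => hA a ha k hk, fun hk => ?_⟩
  have h := hA a⁻¹ (A.inv_mem ha) _ hk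
  have h2 : a⁻¹ * (a * k * a⁻¹) * a⁻¹⁻¹ = k := by group
  rwa [h2] at h

theorem normal_of_sup {A B K : Subgroup G} (hAB : A ⊔ B = ⊤)
    (hA : ∀ a ∈ A, ∀ k ∈ K, a * k * a⁻¹ ∈ K) (hB : ∀ b ∈ B, ∀ k ∈ K, b * k * b⁻¹ ∈ K) :
    K.Normal := by
  rw [← normalizer_eq_top_iff, eq_top_iff, ← hAB]
  exact sup_le (le_normalizer_of hA) (le_normalizer_of hB)

variable [Finite G] {p : ℕ} [hp : Fact p.Prime]

/-- The Frattini argument. -/
theorem frattini (P : Sylow p G) (M : Subgroup G) [M.Normal]
    (h : ∀ Q : Sylow p (G ⧸ M), (Q : Subgroup (G ⧸ M)).Normal) :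
    M ⊔ normalizer ((P : Subgroup G) : Set G) = ⊤ := by
  have h1 : ((P : Subgroup G) ⊔ M).Normal := by
    have h2 := h (P.mapSurjective (QuotientGroup.mk'_surjective M))
    have h3 : (((P : Subgroup G).map (QuotientGroup.mk' M)).comap (QuotientGroup.mk' M)).Normal :=
      h2.comap _
    rwa [comap_map_eq, QuotientGroup.ker_mk'] at h3
  have h2 : normalizer ((P : Subgroup G) : Set G) ⊔ ((P : Subgroup G) ⊔ M) = ⊤ :=
    Sylow.normalizer_sup_eq_top' (N := (P : Subgroup G) ⊔ M) P le_sup_left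
  have h3 : (P : Subgroup G) ≤ normalizer ((P : Subgroup G) : Set G) := le_normalizer
  rw [← sup_assoc, sup_eq_left.2 h3] at h2
  rw [sup_comm]
  exact h2

/-- A subgroup containing `M` and missing an element of a Sylow subgroup has index divisible
by `p`. -/
theorem dvd_index (P : Sylow p G) {M T : Subgroup G} [M.Normal] (hMT : M ≤ T)
    (hF : M ⊔ normalizer ((P : Subgroup G) : Set G) = ⊤) {x g : G} (hx : x ∈ P)
    (h : g * x * g⁻¹ ∉ T) : p ∣ T.index := by
  by_contra hpT
  obtain ⟨Q⟩ : Nonempty (Sylow p T) := inferInstance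
  have hQ1 : IsPGroup p ((Q : Subgroup T).map T.subtype) := Q.isPGroup'.map _
  have hQ2 : ¬ p ∣ ((Q : Subgroup T).map T.subtype).index := by
    have h1 : ((Q : Subgroup T).map T.subtype).index = (Q : Subgroup T).index * T.index := by
      rw [Subgroup.index_map, T.ker_subtype, sup_bot_eq, T.range_subtype]
    rw [h1, hp.out.dvd_mul]
    rintro (h2 | h2)
    · exact Q.not_dvd_index' (by
        have := relIndex_ne_zero_trans (H := (Q : Subgroup T)) (K := ⊤) (L := ⊤)
        exact Subgroup.index_ne_zero_of_finite) h2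
    · exact hpT h2
  obtain ⟨a, ha⟩ := MulAction.exists_smul_eq G (hQ1.toSylow hQ2) P
  have hQT : ∀ y ∈ (hQ1.toSylow hQ2 : Sylow p G), y ∈ T := by
    intro y hy
    obtain ⟨z, -, rfl⟩ := hy
    exact z.2
  have haP : ∀ y ∈ P, a⁻¹ * y * a ∈ T := by
    intro y hy
    rw [← ha] at hy
    have h1 : y ∈ ((a • (hQ1.toSylow hQ2) : Sylow p G) : Subgroup G) := hy
    rw [Sylow.coe_subgroup_smul, Subgroup.mem_pointwise_smul_iff_inv_smul_mem] at h1
    have h2 : (MulAut.conj a)⁻¹ • y = a⁻¹ * y * a := by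
      rw [← map_inv, MulAut.smul_def, MulAut.conj_apply, inv_inv]
    rw [h2] at h1
    exact hQT _ h1
  have hdec : ∀ b : G, ∃ m ∈ M, ∃ n ∈ normalizer ((P : Subgroup G) : Set G), b = m * n := by
    intro b
    have h1 : b ∈ M ⊔ normalizer ((P : Subgroup G) : Set G) := hF ▸ mem_top b
    obtain ⟨m, hm, n, hn, hmn⟩ := mem_sup_of_normal_left.1 h1
    exact ⟨m, hm, n, hn, hmn.symm⟩
  have hPT : ∀ y ∈ P, y ∈ T := by
    intro y hy
    obtain ⟨m, hm, n, hn, hmn⟩ := hdec a⁻¹
    have h1 : n⁻¹ * y * n ∈ P := by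
      have h2 := (mem_normalizer_iff.1 (inv_mem hn) y).1 hy
      rwa [inv_inv] at h2
    have h2 := haP _ h1
    have h3 : a = n⁻¹ * m⁻¹ := by rw [← mul_inv_rev, ← hmn, inv_inv]
    have h4 : a⁻¹ * (n⁻¹ * y * n) * a = m * y * m⁻¹ := by
      rw [hmn, h3]
      group
    rw [h4] at h2
    have h5 := T.mul_mem (T.mul_mem (T.inv_mem (hMT hm)) h2) (hMT hm)
    have h6 : m⁻¹ * (m * y * m⁻¹) * m = y := by group
    rwa [h6] at h5
  apply h
  obtain ⟨m, hm, n, hn, rfl⟩ := hdec g
  have h1 : n * x * n⁻¹ ∈ P := (mem_normalizer_iff.1 hn x).1 hx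
  have h2 : m * n * x * (m * n)⁻¹ = m * (n * x * n⁻¹) * m⁻¹ := by group
  rw [h2]
  exact T.mul_mem (T.mul_mem (hMT hm) (hPT _ h1)) (T.inv_mem (hMT hm))

theorem not_le_normalizer (P : Sylow p G) (hP : ¬ (P : Subgroup G).Normal) {M : Subgroup G}
    (hF : M ⊔ normalizer ((P : Subgroup G) : Set G) = ⊤) :
    ¬ M ≤ normalizer ((P : Subgroup G) : Set G) := by
  intro h
  rw [sup_eq_right.2 h] at hF
  exact hP (normalizer_eq_top_iff.1 hF)

/-- The case of an abelian minimal normal subgroup. -/
theorem abelian_struct (P : Sylow p G) (hP : ¬ (P : Subgroup G).Normal) (M : Subgroup G)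
    [hM : M.Normal] (hmin : ∀ K : Subgroup G, K.Normal → K ≤ M → K = ⊥ ∨ K = M)
    (hab : ∀ a ∈ M, ∀ b ∈ M, a * b = b * a)
    (hF : M ⊔ normalizer ((P : Subgroup G) : Set G) = ⊤) :
    M ⊓ normalizer ((P : Subgroup G) : Set G) = ⊥ ∧ ⁅M, (P : Subgroup G)⁆ = M := by
  have hle := not_le_normalizer P hP hF
  have habc : ∀ m ∈ M, ∀ k ∈ M, m * k * m⁻¹ = k := by
    intro m hm k hk
    rw [hab m hm k hk, mul_inv_cancel_right]
  constructor
  · have hn : (M ⊓ normalizer ((P : Subgroup G) : Set G)).Normal := by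
      refine normal_of_sup hF ?_ ?_
      · intro m hm k hk
        rw [habc m hm k hk.1]
        exact hk
      · intro n hn k hk
        exact ⟨hM.conj_mem k hk.1 n, (normalizer ((P : Subgroup G) : Set G)).mul_mem
          ((normalizer ((P : Subgroup G) : Set G)).mul_mem hn hk.2)
          ((normalizer ((P : Subgroup G) : Set G)).inv_mem hn)⟩
    rcases hmin _ hn inf_le_left with h | h
    · exact h
    · exact absurd (inf_eq_left.1 h) hle
  · have hleM : ⁅M, (P : Subgroup G)⁆ ≤ M := commutator_le_left M P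
    have hn : (⁅M, (P : Subgroup G)⁆).Normal := by
      refine normal_of_sup hF ?_ ?_
      · intro m hm k hk
        rw [habc m hm k (hleM hk)]
        exact hk
      · intro n hn k hk
        have h1 : (⁅M, (P : Subgroup G)⁆).map (MulAut.conj n).toMonoidHom =
            ⁅M, (P : Subgroup G)⁆ := by
          rw [map_commutator]
          congr 1
          · apply le_antisymm
            · rintro _ ⟨m, hm, rfl⟩
              exact hM.conj_mem m hm n
            · intro m hm
              refine ⟨n⁻¹ * m * n, ?_, ?_⟩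
              · have := hM.conj_mem m hm n⁻¹
                rwa [inv_inv] at this
              · show n * (n⁻¹ * m * n) * n⁻¹ = m
                group
          · apply le_antisymm
            · rintro _ ⟨m, hm, rfl⟩
              exact (mem_normalizer_iff.1 hn m).1 hm
            · intro m hm
              refine ⟨n⁻¹ * m * n, ?_, ?_⟩
              · have := (mem_normalizer_iff.1 (inv_mem hn) m).1 hm
                rwa [inv_inv] at this
              · show n * (n⁻¹ * m * n) * n⁻¹ = m
                group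
        have h2 : n * k * n⁻¹ ∈ (⁅M, (P : Subgroup G)⁆).map (MulAut.conj n).toMonoidHom :=
          ⟨k, hk, rfl⟩
        rwa [h1] at h2
    rcases hmin _ hn hleM with h | h
    · exfalso
      apply hle
      intro m hm
      rw [mem_normalizer_iff]
      have h1 : ∀ y ∈ P, m * y * m⁻¹ = y := by
        intro y hy
        have h2 : ⁅m, y⁆ ∈ ⁅M, (P : Subgroup G)⁆ := commutator_mem_commutator hm hy
        rw [h, mem_bot, commutatorElement_def] at h2
        rwa [mul_inv_eq_one] at h2
      intro y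
      refine ⟨fun hy => by rw [h1 y hy]; exact hy, fun hy => ?_⟩
      have h2 := h1 _ hy
      have h3 : m * y * m⁻¹ = y := by
        have h4 : m * (m * y * m⁻¹) = m * y * m⁻¹ * m := by
          conv_rhs => rw [← h2]
          group
        have h5 : m * y * m⁻¹ = y := by
          have h6 : m * y * m⁻¹ = y * m * m⁻¹ := by
            have h7 : m * (m * y * m⁻¹) = m * y := by rw [h4]; group
            have h8 := mul_left_cancel h7
            rw [h8]; group
          rw [h6]; group
        exact h5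
      rwa [h3] at hy
    · exact h

/-- Orbits of equal length: if all nonidentity elements of the normal subgroup `M` have centralizers
of index `t`, then `t` divides `|M| - 1`. -/
theorem dvd_card_sub_one (M : Subgroup G) [hM : M.Normal] (t : ℕ)
    (ht : ∀ m ∈ M, m ≠ 1 → (centralizer ({m} : Set G)).index = t) : t ∣ Nat.card M - 1 := by
  classical
  let _ : MulAction G M := MulAction.compHom M (MulAut.conjNormal : G →* MulAut M)
  have hsm : ∀ (g : G) (m : M), ((g • m : M) : G) = g * m * g⁻¹ := fun g m => rfl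
  have hstab : ∀ m : M, MulAction.stabilizer G m = centralizer ({(m : G)} : Set G) := by
    intro m
    ext g
    rw [MulAction.mem_stabilizer_iff, mem_centralizer_singleton_iff, Subtype.ext_iff, hsm,
      mul_inv_eq_iff_eq_mul]
  let Ω := Quotient (MulAction.orbitRel G M)
  have := Fintype.ofFinite Ω
  have h1 : Nat.card M = ∑ ω : Ω, Nat.card (MulAction.orbit G ω.out) := by
    rw [← Nat.card_sigma]
    exact Nat.card_congr (MulAction.selfEquivSigmaOrbits G M)
  have horb : ∀ m : M, Nat.card (MulAction.orbit G m) = (centralizer ({(m : G)} : Set G)).index := by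
    intro m
    rw [← hstab, MulAction.index_stabilizer]
    rfl
  let ω₁ : Ω := Quotient.mk _ (1 : M)
  have hω : ∀ ω : Ω, ω ≠ ω₁ → (ω.out : M) ≠ 1 := by
    intro ω hne h
    apply hne
    rw [← Quotient.out_eq ω, h]
  have hω1 : (ω₁.out : M) = 1 := by
    have h2 : (MulAction.orbitRel G M) ω₁.out 1 := Quotient.exact (Quotient.out_eq ω₁)
    rw [MulAction.orbitRel_apply, MulAction.mem_orbit_iff] at h2
    obtain ⟨g, hg⟩ := h2
    rw [← hg]
    apply Subtype.ext
    rw [hsm]
    simp
  rw [h1, ← Finset.add_sum_erase _ _ (Finset.mem_univ ω₁), horb, hω1]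
  have h3 : (centralizer ({((1 : M) : G)} : Set G)).index = 1 := by
    rw [index_eq_one, eq_top_iff]
    intro g _
    rw [mem_centralizer_singleton_iff]
    simp
  rw [h3, Nat.add_sub_cancel_left]
  refine Finset.dvd_sum fun ω hω' => ?_
  rw [horb, ht _ ω.out.2 (fun h => hω ω (Finset.ne_of_mem_erase hω') (Subtype.ext h))]

/-- An abelian minimal normal subgroup has prime power order. -/
theorem isPrimePow_card (M : Subgroup G) [hM : M.Normal] (hM0 : M ≠ ⊥)
    (hmin : ∀ K : Subgroup G, K.Normal → K ≤ M → K = ⊥ ∨ K = M)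
    (hab : ∀ a ∈ M, ∀ b ∈ M, a * b = b * a) : IsPrimePow (Nat.card M) := by
  have h1 : Nat.card M ≠ 1 := fun h => hM0 (card_eq_one.1 h)
  obtain ⟨r, hr, hrM⟩ := Nat.exists_prime_and_dvd h1
  have : Fact r.Prime := ⟨hr⟩
  obtain ⟨K, hKm⟩ : ∃ K : Subgroup G, ∀ x, x ∈ K ↔ x ∈ M ∧ x ^ r = 1 :=
    ⟨{ carrier := {x | x ∈ M ∧ x ^ r = 1}
       one_mem' := ⟨M.one_mem, one_pow _⟩
       mul_mem' := fun {a b} ha hb => ⟨M.mul_mem ha.1 hb.1, by
         rw [(show Commute a b from hab a ha.1 b hb.1).mul_pow, ha.2, hb.2, one_mul]⟩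
       inv_mem' := fun {a} ha => ⟨M.inv_mem ha.1, by rw [inv_pow, ha.2, inv_one]⟩ },
      fun x => Iff.rfl⟩
  have hK : K.Normal := ⟨fun k hk g => (hKm _).2 ⟨hM.conj_mem k ((hKm k).1 hk).1 g, by
    rw [conj_pow, ((hKm k).1 hk).2, mul_one, mul_inv_cancel]⟩⟩
  rcases hmin K hK (fun x hx => ((hKm x).1 hx).1) with h | h
  · exfalso
    obtain ⟨x, hx⟩ := exists_prime_orderOf_dvd_card' r hrM
    have h2 : (x : G) ∈ K := (hKm _).2 ⟨x.2, by
      have h3 := pow_orderOf_eq_one x
      rw [hx] at h3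
      exact congrArg Subtype.val h3⟩
    rw [h, mem_bot] at h2
    have h3 : x = 1 := Subtype.ext h2
    rw [h3, orderOf_one] at hx
    exact hr.one_lt.ne hx
  · have h2 : IsPGroup r M := by
      intro x
      refine ⟨1, ?_⟩
      have h3 : (x : G) ∈ K := h ▸ x.2
      rw [pow_one]
      exact Subtype.ext ((hKm _).1 h3).2
    obtain ⟨n, hn⟩ : ∃ n, Nat.card M = r ^ n := IsPGroup.iff_card.1 h2
    rw [hn]
    refine hr.isPrimePow.pow ?_
    intro hn0
    rw [hn0, pow_zero] at hn
    exact h1 hn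

end Cfsg.Agent.H685.Acd
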