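import Cfsg.Agent.H685.AcdW
import Cfsg.Agent.H685.AcdStruct
import Cfsg.Agent.S4871

/-!
# The abelian case
-/

set_option autoImplicit false
set_option linter.unusedSectionVars false

namespace Cfsg.Agent.H685.Acd

open Cfsg
open scoped ComplexConjugate commutatorElement
open Cfsg.Agent.Characters.Core
open Cfsg.Agent.OddOrderCharacters.NormalInduced (conjFn)
open Cfsg.Agent.OddOrderCharacters.IndRes (res)
open Cfsg.Agent.OddOrderCharacters.PF9.CliffGen (resTo irr_ind ind_inj isCharacter_resTo inertia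
  mem_inertia le_inertia exists_extension)

universe u v

/-- The numerical conditions on `(p, L)`. -/
structure Num (p L : ℕ) : Prop where
  two : 2 ≤ p
  pos : 1 ≤ L
  key : ∀ t, p ∣ t → 0 < t → 4 * L ≤ t * (L + 3)
  pow : ∀ n, p ∣ n → 0 < n → IsPrimePow (n + 1) → L ≤ n

theorem num_of_min {p ℓ : ℕ} (hp : p.Prime) (hℓ : 0 < ℓ)
    (hmin : ∀ m : ℕ, 0 < m → m < ℓ → ¬ IsPrimePow (m * p + 1)) : Num p (ℓ * p) := by
  have h2 := hp.two_le
  refine ⟨h2, Nat.mul_pos hℓ hp.pos, ?_, ?_⟩
  · intro t ht ht0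
    have hpt : p ≤ t := Nat.le_of_dvd ht0 ht
    by_cases h4 : 4 ≤ t
    · calc 4 * (ℓ * p) ≤ 4 * (ℓ * p + 3) := by omega
        _ ≤ t * (ℓ * p + 3) := Nat.mul_le_mul_right _ h4
    · have h5 : p = 2 ∨ p = 3 := by omega
      have hl1 : ℓ = 1 := by
        by_contra h
        refine hmin 1 one_pos (by omega) ?_
        rcases h5 with rfl | rfl
        · exact Nat.prime_three.isPrimePow
        · have : (1 * 3 + 1 : ℕ) = 2 ^ 2 := by norm_num
          rw [this]
          exact Nat.prime_two.isPrimePow.pow (by norm_num)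
      subst hl1
      rcases h5 with rfl | rfl
      · have : t = 2 := by
          obtain ⟨c, hc⟩ := ht
          omega
        subst this
        norm_num
      · have : t = 3 := by
          obtain ⟨c, hc⟩ := ht
          omega
        subst this
        norm_num
  · rintro n ⟨m, rfl⟩ hn hpow
    have hm : 0 < m := Nat.pos_of_mul_pos_left hn |> fun _ => by
      rcases Nat.eq_zero_or_pos m with h | h
      · rw [h, mul_zero] at hn
        exact absurd hn (lt_irrefl _)
      · exact h
    rw [mul_comm p m]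
    apply Nat.mul_le_mul_right
    by_contra h
    rw [mul_comm p m] at hpow
    exact hmin m hm (by omega) hpow

/-- The number of constituents of a restriction is at most the degree. -/
theorem card_constituents_le {G : Type u} [Group G] [Fintype G] (N : Subgroup G) [Fintype N]
    {χ : G → ℂ} (hχ : IsIrrCharacter G χ) :
    Nat.card {ψ : IrrCharacter N // classInner (res N χ) (ψ : N → ℂ) ≠ 0} ≤ charDegree χ := by
  classical
  have : Finite (IrrCharacter N) := finite_irr
  have := Fintype.ofFinite (IrrCharacter N)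
  rw [Nat.card_eq_fintype_card, Fintype.card_subtype]
  exact Cfsg.Agent.S4871.card_le_degree N hχ _ (fun ψ hψ => (Finset.mem_filter.1 hψ).2)

theorem charDegree_hom {G : Type u} [Group G] (f : G →* ℂˣ) :
    charDegree (fun g => (f g : ℂ)) = 1 :=
  Cfsg.Agent.Blocks.Basic.charDegree_of_eq (by simp)

theorem num_one {p L : ℕ} (hnum : Num p L) {t u b n : ℕ} (hpt : p ∣ t) (ht0 : 0 < t)
    (hu : 2 * u ≤ t) (hn : n ≤ u * b) : (L - 1) * n ≤ b * (t * (L + 1) - 2 * L) := by
  have hkey := hnum.key t hpt ht0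
  obtain ⟨l, rfl⟩ : ∃ l, L = l + 1 := ⟨L - 1, by have := hnum.pos; omega⟩
  rw [Nat.add_sub_cancel]
  have h2 : l * u ≤ t * (l + 1 + 1) - 2 * (l + 1) := by
    have h3 : l * (2 * u) ≤ l * t := Nat.mul_le_mul_left _ hu
    have h4 : 2 * (l * u) = l * (2 * u) := by ring
    have h5 : t * (l + 1 + 3) = l * t + 4 * t := by ring
    have h6 : t * (l + 1 + 1) = l * t + 2 * t := by ring
    omega
  calc l * n ≤ l * (u * b) := Nat.mul_le_mul_left _ hn
    _ = b * (l * u) := by ring
    _ ≤ _ := Nat.mul_le_mul_left _ h2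

theorem num_two {p L : ℕ} (hnum : Num p L) {t N X n : ℕ} (hpt : p ∣ t) (ht0 : 0 < t)
    (htN : t ∣ N) (hN0 : 0 < N) (hLN : L ≤ N) (hdc : N * n ≤ t * (t * X)) :
    (L - 1) * n ≤ X * (t * (L + 1) - 2 * L) := by
  have hkey := hnum.key t hpt ht0
  obtain ⟨j, hj⟩ := htN
  obtain ⟨l, rfl⟩ : ∃ l, L = l + 1 := ⟨L - 1, by have := hnum.pos; omega⟩
  rw [Nat.add_sub_cancel]
  have ht2 : 2 ≤ t := hnum.two.trans (Nat.le_of_dvd ht0 hpt)
  have hw : 2 * (l + 1) ≤ t * (l + 1 + 1) := Nat.mul_le_mul ht2 (Nat.le_succ _)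
  obtain ⟨w, hw'⟩ : ∃ w, t * (l + 1 + 1) = 2 * (l + 1) + w := ⟨_, (Nat.add_sub_cancel' hw).symm⟩
  have hweq : t * (l + 1 + 1) - 2 * (l + 1) = w := by omega
  rw [hweq]
  have hjw : l * t ≤ j * w := by
    have hj0 : j ≠ 0 := by
      rintro rfl
      rw [mul_zero] at hj
      omega
    have e1 : t * (l + 1 + 1) = l * t + 2 * t := by ring
    have e2 : t * (l + 1 + 3) = l * t + 4 * t := by ring
    rcases Nat.lt_or_ge 1 j with h2 | h2
    · calc l * t ≤ 2 * w := by omega
        _ ≤ j * w := Nat.mul_le_mul_right _ h2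
    · have hj1 : j = 1 := by omega
      subst hj1
      rw [mul_one] at hj
      rw [one_mul]
      omega
  have hfin : N * (l * n) ≤ N * (X * w) := by
    calc N * (l * n) = l * (N * n) := by ring
      _ ≤ l * (t * (t * X)) := Nat.mul_le_mul_left _ hdc
      _ = (t * X) * (l * t) := by ring
      _ ≤ (t * X) * (j * w) := Nat.mul_le_mul_left _ hjw
      _ = (t * j) * (X * w) := by ring
      _ = N * (X * w) := by rw [← hj]
  exact Nat.le_of_mul_le_mul_left hfin hN0

/-- Linear characters trivial on `T`, which does not contain the derived group. -/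
theorem two_mul_card_le {G : Type u} [Group G] [Finite G] (T : Subgroup G)
    (hnle : ¬ commutator G ≤ T) : 2 * Nat.card {f : G →* ℂˣ // ∀ t ∈ T, f t = 1} ≤ T.index := by
  have hfh := finite_hom G
  have ht0 : 0 < T.index := Nat.pos_of_ne_zero Subgroup.index_ne_zero_of_finite
  have h1 : Nat.card {f : G →* ℂˣ // ∀ t ∈ T, f t = 1} ≤ (T ⊔ commutator G).index := by
    refine le_trans ?_ (Cfsg.Agent.H705.StrongLin.card_hom_le (T ⊔ commutator G))
    refine Nat.card_le_card_of_injective (fun f : {f : G →* ℂˣ // ∀ t ∈ T, f t = 1} =>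
      (⟨f.1, ?_⟩ : {f : G →* ℂˣ // ∀ t ∈ T ⊔ commutator G, f t = 1})) ?_
    · intro x hx
      have h2 : T ⊔ commutator G ≤ f.1.ker :=
        sup_le (fun y hy => MonoidHom.mem_ker.2 (f.2 y hy))
          (Abelianization.commutator_subset_ker f.1)
      exact MonoidHom.mem_ker.1 (h2 hx)
    · intro f f' hff
      exact Subtype.ext (congrArg (fun x : {f : G →* ℂˣ // ∀ t ∈ T ⊔ commutator G,
        f t = 1} => x.1) hff)
  have h2 : T.relIndex (T ⊔ commutator G) * (T ⊔ commutator G).index = T.index :=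
    Subgroup.relIndex_mul_index le_sup_left
  have h3 : T.relIndex (T ⊔ commutator G) ≠ 1 := by
    rw [Ne, Subgroup.relIndex_eq_one]
    intro h4
    exact hnle (le_sup_right.trans h4)
  have h4 : T.relIndex (T ⊔ commutator G) ≠ 0 := by
    intro h5
    rw [h5, zero_mul] at h2
    omega
  calc 2 * Nat.card {f : G →* ℂˣ // ∀ t ∈ T, f t = 1} ≤ 2 * (T ⊔ commutator G).index :=
        Nat.mul_le_mul_left _ h1
    _ ≤ T.relIndex (T ⊔ commutator G) * (T ⊔ commutator G).index :=
      Nat.mul_le_mul_right _ (by omega)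
    _ = T.index := h2

/-- The inertia group of a linear character of `M`. -/
def TL {G : Type u} [Group G] (M : Subgroup G) [M.Normal] (lam : M →* ℂˣ) : Subgroup G :=
  inertia M (fun n => (lam n : ℂ))

/-- The irreducible characters of degree `t` over `lam`. -/
def BL {G : Type u} [Group G] [Fintype G] (M : Subgroup G) [Fintype M] (lam : M →* ℂˣ) (t : ℕ) :
    Type u :=
  {χ : IrrCharacter G //
    charDegree (χ : G → ℂ) = t ∧ classInner (res M χ) (fun n => (lam n : ℂ)) ≠ 0}

theorem card_BL_mul_le {G : Type u} [Group G] [Fintype G] (M : Subgroup G) [Fintype M]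
    (lam : M →* ℂˣ) {p L d : ℕ} (hd : p ∣ d) :
    Nat.card (BL M lam d) * (d * (L + 1) - 2 * L) ≤ W p L G := by
  unfold BL
  exact card_mul_le hd _

theorem card_X_mul_le {G : Type u} [Group G] [Fintype G] {p L d : ℕ} (hd : p ∣ d) :
    Nat.card {χ : IrrCharacter G // charDegree (χ : G → ℂ) = d ∧ True} *
      (d * (L + 1) - 2 * L) ≤ W p L G :=
  card_mul_le hd (fun _ => True)

/-- The double count. -/
theorem double_count {G : Type u} [Group G] [Fintype G] (M : Subgroup G) [Fintype M]
    {n t N : ℕ} (hN : Nat.card {lam : M →* ℂˣ // lam ≠ 1} = N)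
    (h : ∀ lam : M →* ℂˣ, lam ≠ 1 → n ≤ t * Nat.card (BL M lam t)) :
    N * n ≤ t * (t * Nat.card {χ : IrrCharacter G // charDegree (χ : G → ℂ) = t ∧ True}) := by
  classical
  have hfG : Finite (IrrCharacter G) := finite_irr
  have hfM := finite_hom M
  have hlin : ∀ lam : M →* ℂˣ, IsIrrCharacter M (fun n => (lam n : ℂ)) := fun lam =>
    Cfsg.Agent.Characters.Linear.isIrrCharacter_hom lam
  let X := {χ : IrrCharacter G // charDegree (χ : G → ℂ) = t ∧ True}
  let S := Σ lam : {lam : M →* ℂˣ // lam ≠ 1}, BL M lam.1 t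
  have hfB : ∀ lam, Finite (BL M lam t) := fun lam => by unfold BL; infer_instance
  have hfS : Finite S := inferInstance
  have h1 : Nat.card S ≤ t * Nat.card X := by
    let F : S → X := fun s => ⟨s.2.1, s.2.2.1, trivial⟩
    refine card_le_of_fiber F t fun χ => ?_
    refine le_trans ?_ ((card_constituents_le M χ.1.2).trans_eq χ.2.1)
    have : Finite {ψ : IrrCharacter M // classInner (res M χ.1) (ψ : M → ℂ) ≠ 0} := by
      have : Finite (IrrCharacter M) := finite_irr
      exact inferInstance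
    refine Nat.card_le_card_of_injective (fun s : {s : S // F s = χ} =>
      (⟨⟨fun n => (s.1.1.1 n : ℂ), hlin s.1.1.1⟩, ?_⟩ :
        {ψ : IrrCharacter M // classInner (res M χ.1) (ψ : M → ℂ) ≠ 0})) ?_
    · have h2 := s.1.2.2.2
      have h3 : s.1.2.1 = χ.1 := congrArg (fun x : X => x.1) s.2
      rw [h3] at h2
      exact h2
    · rintro ⟨⟨⟨l1, hl1⟩, ⟨χ1, h1⟩⟩, hs1⟩ ⟨⟨⟨l2, hl2⟩, ⟨χ2, h2⟩⟩, hs2⟩ h
      have e1 : l1 = l2 := by
        refine MonoidHom.ext fun g => Units.ext ?_
        have h3 := congrArg (fun x : {ψ : IrrCharacter M //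
          classInner (res M χ.1) (ψ : M → ℂ) ≠ 0} => (x.1 : M → ℂ)) h
        exact congrFun h3 g
      subst e1
      have e2 : χ1 = χ2 := by
        have e3 : χ1 = χ.1 := congrArg (fun x : X => x.1) hs1
        have e4 : χ2 = χ.1 := congrArg (fun x : X => x.1) hs2
        rw [e3, e4]
      subst e2
      rfl
  have h2 : N * n ≤ t * Nat.card S := by
    have := Fintype.ofFinite {lam : M →* ℂˣ // lam ≠ 1}
    have h4 : Nat.card S = ∑ lam : {lam : M →* ℂˣ // lam ≠ 1}, Nat.card (BL M lam.1 t) :=
      Nat.card_sigma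
    rw [h4, Finset.mul_sum, ← hN, Nat.card_eq_fintype_card, ← smul_eq_mul, ← Finset.card_univ,
      ← Finset.sum_const]
    exact Finset.sum_le_sum fun lam _ => h lam.1 lam.2
  exact h2.trans (Nat.mul_le_mul_left _ h1)

theorem abelian_case {G : Type u} [Group G] [Finite G] {p L : ℕ} [hp : Fact p.Prime]
    (hnum : Num p L) (P : Sylow p G) (hP : ¬ (P : Subgroup G).Normal) (M : Subgroup G)
    [hM : M.Normal] (hM0 : M ≠ ⊥) (hMG : M ≤ commutator G)
    (hmin : ∀ K : Subgroup G, K.Normal → K ≤ M → K = ⊥ ∨ K = M)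
    (hab : ∀ a ∈ M, ∀ b ∈ M, a * b = b * a)
    (hF : M ⊔ Subgroup.normalizer ((P : Subgroup G) : Set G) = ⊤) :
    (L - 1) * Nat.card (G →* ℂˣ) ≤ W p L G := by
  classical
  have := Fintype.ofFinite G
  have := Fintype.ofFinite M
  have hfG : Finite (IrrCharacter G) := finite_irr
  have hfh := finite_hom G
  have hfM := finite_hom M
  obtain ⟨hcompl, hcomm⟩ := abelian_struct P hP M hmin hab hF
  -- the inertia groups
  let T : (M →* ℂˣ) → Subgroup G := TL M
  have hT : ∀ lam g, g ∈ T lam ↔ conjFn M (fun n => (lam n : ℂ)) g = fun n => (lam n : ℂ) :=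
    fun lam g => Iff.rfl
  have hlin : ∀ lam : M →* ℂˣ, IsIrrCharacter M (fun n => (lam n : ℂ)) := fun lam =>
    Cfsg.Agent.Characters.Linear.isIrrCharacter_hom lam
  have hMT : ∀ lam, M ≤ T lam := fun lam => le_inertia (isIrr_isClassFunction (hlin lam))
  have hTel : ∀ lam g, g ∈ T lam → ∀ m : M, lam ⟨g * m * g⁻¹, hM.conj_mem m m.2 g⟩ = lam m := by
    intro lam g hg m
    exact Units.ext (congrFun ((hT lam g).1 hg) m)
  -- a subgroup acting trivially on `lam` has its commutators in the kernel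
  have hker : ∀ (lam : M →* ℂˣ) (A : Subgroup G), A ≤ T lam →
      ∀ x (hx : x ∈ ⁅M, A⁆), ∀ hx' : x ∈ M, lam ⟨x, hx'⟩ = 1 := by
    intro lam A hA x hx hx'
    have h1 : ⁅M, A⁆ ≤ lam.ker.map M.subtype := by
      rw [Subgroup.commutator_le]
      intro m hm a ha
      have h2 : m * a * m⁻¹ * a⁻¹ = m * (a * m⁻¹ * a⁻¹) := by group
      rw [commutatorElement_def, h2]
      refine ⟨⟨m, hm⟩ * ⟨a * m⁻¹ * a⁻¹, hM.conj_mem _ (M.inv_mem hm) a⟩, ?_, rfl⟩
      rw [SetLike.mem_coe, MonoidHom.mem_ker, map_mul]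
      have h3 := hTel lam a (hA ha) (⟨m, hm⟩⁻¹ : M)
      have h4 : (⟨a * m⁻¹ * a⁻¹, hM.conj_mem _ (M.inv_mem hm) a⟩ : M) =
          ⟨a * ((⟨m, hm⟩⁻¹ : M) : G) * a⁻¹, hM.conj_mem _ (⟨m, hm⟩⁻¹ : M).2 a⟩ := rfl
      rw [h4, h3, map_inv, mul_inv_cancel]
    obtain ⟨y, hy, hyx⟩ := h1 hx
    have h2 : y = ⟨x, hx'⟩ := Subtype.ext hyx
    rw [← h2]
    exact hy
  have hpT : ∀ lam : M →* ℂˣ, lam ≠ 1 → p ∣ (T lam).index := by
    intro lam hlam
    by_contra hcon
    apply hlam
    have hPT : (P : Subgroup G) ≤ T lam := by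
      intro x hx
      by_contra hxT
      refine hcon (dvd_index P (hMT lam) hF hx (g := 1) ?_)
      simpa using hxT
    ext m
    have h1 := hker lam P hPT m (by rw [hcomm]; exact m.2) m.2
    rw [show (⟨(m : G), m.2⟩ : M) = m from rfl] at h1
    rw [h1]
    rfl
  -- the count
  have hcount : ∀ lam, Nat.card (G →* ℂˣ) ≤
      Nat.card {f : G →* ℂˣ // ∀ t ∈ T lam, f t = 1} * Nat.card (BL M lam (T lam).index) := by
    intro lam
    have := Fintype.ofFinite (T lam)
    obtain ⟨F, hF1, -⟩ := exists_extension (N := M) (T := T lam) hcompl hF (hMT lam) (lam := lam)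
      (fun g hg => hg) (1 : ↥(T lam ⊓ Subgroup.normalizer ((P : Subgroup G) : Set G)) →* ℂˣ)
    have hres : resTo (hMT lam) (fun t => (F t : ℂ)) = fun n => (lam n : ℂ) := by
      funext n
      show ((F ⟨n, hMT lam n.2⟩ : ℂˣ) : ℂ) = _
      rw [hF1]
    have h1 := count M hMG (hlin lam) (T lam) (hT lam) (hMT lam)
      (Cfsg.Agent.Characters.Linear.isIrrCharacter_hom F) (m := 1) (d := 1)
      (by rw [hres, classInner_irr_self (hlin lam)]; exact one_ne_zero)
      (by rw [hres, classInner_irr_self (hlin lam), Nat.cast_one]) (charDegree_hom F)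
    rw [mul_one, mul_one] at h1
    exact h1
  by_cases hA : ∃ lam : M →* ℂˣ, lam ≠ 1 ∧ ¬ commutator G ≤ T lam
  · obtain ⟨lam, hlam, hnle⟩ := hA
    have hpt : p ∣ (T lam).index := hpT lam hlam
    have ht0 : 0 < (T lam).index := Nat.pos_of_ne_zero Subgroup.index_ne_zero_of_finite
    have h1 := num_one hnum hpt ht0 (two_mul_card_le (T lam) hnle) (hcount lam)
    have h2 := card_BL_mul_le (L := L) M lam hpt
    exact h1.trans h2
  · push Not at hA
    let _ : CommGroup M := { (inferInstance : Group M) with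
      mul_comm := fun a b => Subtype.ext (hab a a.2 b b.2) }
    have hcard : Nat.card (M →* ℂˣ) = Nat.card M :=
      CommGroup.card_monoidHom_of_hasEnoughRootsOfUnity M ℂ
    have hM2 : 1 < Nat.card M := by
      rcases Nat.lt_or_ge 1 (Nat.card M) with h | h
      · exact h
      · exact absurd (Subgroup.card_eq_one.1 (le_antisymm h Nat.card_pos)) hM0
    obtain ⟨lam₀, hlam₀⟩ : ∃ lam : M →* ℂˣ, lam ≠ 1 := by
      have : Nontrivial (M →* ℂˣ) := by
        rw [← Finite.one_lt_card_iff_nontrivial, hcard]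
        exact hM2
      exact exists_ne 1
    have hTC : ∀ lam : M →* ℂˣ, lam ≠ 1 → T lam = Subgroup.centralizer (M : Set G) := by
      intro lam hlam
      apply le_antisymm
      · have hTn : (T lam).Normal := Subgroup.Normal.of_commutator_le _ (hA lam hlam)
        have h1 : ⁅M, T lam⁆ ≤ M := Subgroup.commutator_le_left M _
        have h2 : (⁅M, T lam⁆).Normal := inferInstance
        rcases hmin _ h2 h1 with h | h
        · rw [Subgroup.commutator_eq_bot_iff_le_centralizer] at h
          intro x hx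
          rw [Subgroup.mem_centralizer_iff]
          intro m hm
          exact ((Subgroup.mem_centralizer_iff.1 (h hm)) x hx).symm
        · exfalso
          apply hlam
          ext m
          have h3 := hker lam (T lam) le_rfl m (by rw [h]; exact m.2) m.2
          rw [show (⟨(m : G), m.2⟩ : M) = m from rfl] at h3
          rw [h3]
          rfl
      · intro x hx
        rw [hT]
        funext m
        show ((lam ⟨x * m * x⁻¹, hM.conj_mem m m.2 x⟩ : ℂˣ) : ℂ) = lam m
        have h1 : (⟨x * m * x⁻¹, hM.conj_mem m m.2 x⟩ : M) = m := by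
          apply Subtype.ext
          show x * m * x⁻¹ = m
          rw [← Subgroup.mem_centralizer_iff.1 hx m m.2, mul_inv_cancel_right]
        rw [h1]
    set C := Subgroup.centralizer (M : Set G) with hC
    have hGC : commutator G ≤ C := hTC lam₀ hlam₀ ▸ hA lam₀ hlam₀
    set t := C.index with ht
    have hpt : p ∣ t := by
      have := hpT lam₀ hlam₀
      rwa [hTC lam₀ hlam₀] at this
    have ht0 : 0 < t := Nat.pos_of_ne_zero Subgroup.index_ne_zero_of_finite
    -- `t` divides `|M| - 1`
    have htM : t ∣ Nat.card M - 1 := by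
      apply dvd_card_sub_one M t
      intro m hm hm1
      congr 1
      have hle : C ≤ Subgroup.centralizer ({m} : Set G) :=
        Subgroup.centralizer_le (Set.singleton_subset_iff.2 hm)
      apply le_antisymm _ hle
      have hn : (Subgroup.centralizer ({m} : Set G)).Normal :=
        Subgroup.Normal.of_commutator_le _ (hGC.trans hle)
      have h2 : (M ⊓ Subgroup.centralizer ((Subgroup.centralizer ({m} : Set G) : Subgroup G) :
          Set G)).Normal := inferInstance
      rcases hmin _ h2 inf_le_left with h | h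
      · exfalso
        apply hm1
        have h3 : m ∈ M ⊓ Subgroup.centralizer ((Subgroup.centralizer ({m} : Set G) :
            Subgroup G) : Set G) := by
          refine ⟨hm, Subgroup.mem_centralizer_iff.2 ?_⟩
          intro y hy
          exact Subgroup.mem_centralizer_singleton_iff.1 hy
        rw [h] at h3
        exact h3
      · intro x hx
        rw [hC, Subgroup.mem_centralizer_iff]
        intro y hy
        rw [← h] at hy
        exact ((Subgroup.mem_centralizer_iff.1 hy.2) x hx).symm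
    -- the double count
    have h3 : Nat.card {lam : M →* ℂˣ // lam ≠ 1} = Nat.card M - 1 := by
      have := Fintype.ofFinite (M →* ℂˣ)
      rw [← hcard, Nat.card_eq_fintype_card, Nat.card_eq_fintype_card,
        Fintype.card_subtype_compl, Fintype.card_subtype_eq]
    have hdc := double_count (t := t) (n := Nat.card (G →* ℂˣ)) M h3 (fun lam hlam => by
      refine (hcount lam).trans ?_
      have h5 : (T lam).index = t := by rw [hTC lam hlam]
      rw [h5]
      refine Nat.mul_le_mul_right _ ?_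
      have := Cfsg.Agent.H705.StrongLin.card_hom_le (T lam)
      rwa [h5] at this)
    have hN0 : 0 < Nat.card M - 1 := by omega
    have hLN : L ≤ Nat.card M - 1 := by
      apply hnum.pow _ (hpt.trans htM) hN0
      rw [Nat.sub_add_cancel hM2.le]
      exact isPrimePow_card M hM0 hmin hab
    have h4 := num_two hnum hpt ht0 htM hN0 hLN hdc
    have h5 := card_X_mul_le (G := G) (L := L) hpt
    exact h4.trans h5

end Cfsg.Agent.H685.Acd
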