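import Cfsg.Agent.H685.AcdNab
import Cfsg.Agent.H685.AcdAb

/-!
# The reduction of S4830 to simple groups
-/

set_option autoImplicit false
set_option linter.unusedSectionVars false

namespace Cfsg.Agent.H685.Acd

open Cfsg
open scoped ComplexConjugate commutatorElement
open Cfsg.Agent.Characters.Core
open Cfsg.Agent.OddOrderCharacters.NormalInduced (conjFn)
open Cfsg.Agent.OddOrderCharacters.IndRes (res)
open Cfsg.Agent.OddOrderCharacters.PF9.CliffGen (resTo irr_ind ind_inj isCharacter_resTo inertia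
  mem_inertia le_inertia exists_hom_of_ker)
open Cfsg.Agent.H612.MinNormal (cj mem_cj mem_normalizer_iff_cj)

universe u v

theorem charDegree_eq_one_of_ker {S : Type u} [Group S] [Finite S] {α : S → ℂ}
    (hα : IsIrrCharacter S α) (h : ∀ s, α s = α 1) : charDegree α = 1 := by
  obtain ⟨f, hf⟩ := exists_hom_of_ker hα (fun y _ => h y)
  rw [hf]
  exact charDegree_hom f

/-- Characters of `G` from a character of a simple factor of `M`. -/
theorem nab_count {G : Type u} [Group G] [Fintype G] (M : Subgroup G) [hM : M.Normal] [Fintype M]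
    (hMG : M ≤ commutator G) {S : Subgroup G} [hsimple : IsSimpleGroup S]
    (hSna : ¬ IsMulCommutative S) (hSM : S ≤ M)
    (hcj : ∀ g : G, cj g S = S ∨ cj g S ≤ Subgroup.centralizer (S : Set G))
    (π : M →* S) (hπ1 : ∀ (m : M) (x : S), (m : G) * x * (m : G)⁻¹ = (π m : G) * x * (π m : G)⁻¹)
    (hπ2 : ∀ (m : M) (s : S), (m : G) = s → π m = s) (α : IrrCharacter S)
    (hα : charDegree (α : S → ℂ) ≠ 1) :
    ∃ (T : Subgroup G) (e : ℕ) (Q : IrrCharacter G → Prop), M ≤ T ∧
      (∀ t ∈ T, ∃ h : t ∈ Subgroup.normalizer (S : Set G), ∀ s : S,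
        (α : S → ℂ) ⟨t * s * t⁻¹, (Subgroup.mem_normalizer_iff.1 h s).1 s.2⟩ = (α : S → ℂ) s) ∧
      e ≠ 0 ∧ e ^ 2 ≤ (MulAut.conj : S →* MulAut S).range.index ∧
      Nat.card (G →* ℂˣ) ≤ T.index * e ^ 2 * Nat.card {χ : IrrCharacter G //
        charDegree (χ : G → ℂ) = T.index * (e * charDegree (α : S → ℂ)) ∧ Q χ} := by
  classical
  have hirrθ : IsIrrCharacter M ((α : S → ℂ) ∘ π) := isIrr_comp π (fun s =>
    ⟨⟨s, hSM s.2⟩, hπ2 _ _ rfl⟩) α.2
  set θ : M → ℂ := (α : S → ℂ) ∘ π with hθ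
  set T : Subgroup G := inertia M θ with hT
  have hmem : ∀ t, t ∈ T ↔ conjFn M θ t = θ := fun t => Iff.rfl
  have hMT : M ≤ T := le_inertia (isIrr_isClassFunction hirrθ)
  have hST : S ≤ T := hSM.trans hMT
  have hθs : ∀ (s : S) (h : (s : G) ∈ M), θ ⟨s, h⟩ = (α : S → ℂ) s := by
    intro s h
    rw [hθ, Function.comp_apply, hπ2 ⟨s, h⟩ s rfl]
  have hTel : ∀ t ∈ T, ∀ m : M, θ ⟨t * m * t⁻¹, hM.conj_mem m m.2 t⟩ = θ m := fun t ht m =>
    congrFun ((hmem t).1 ht) m
  -- `T` normalizes `S`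
  have hTN : ∀ t ∈ T, t ∈ Subgroup.normalizer (S : Set G) := by
    intro t ht
    rw [mem_normalizer_iff_cj]
    rcases hcj t with h | h
    · exact h
    · exfalso
      apply hα
      apply charDegree_eq_one_of_ker α.2
      intro s
      have h1 := hTel t ht ⟨s, hSM s.2⟩
      rw [hθs] at h1
      rw [← h1, hθ, Function.comp_apply]
      refine congrArg (α : S → ℂ) ?_
      apply eq_one_of_central hSna
      intro x
      apply Subtype.ext
      have h2 : t * s * t⁻¹ ∈ Subgroup.centralizer (S : Set G) := h ⟨s, s.2, rfl⟩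
      have h3 := Subgroup.mem_centralizer_iff.1 h2 x x.2
      have h4 := hπ1 ⟨t * s * t⁻¹, hM.conj_mem _ (hSM s.2) t⟩ x
      have h5 : (t * s * t⁻¹) * x * (t * s * t⁻¹)⁻¹ = (x : G) := by
        rw [← h3, mul_inv_cancel_right]
      have h6 : (π ⟨t * s * t⁻¹, hM.conj_mem _ (hSM s.2) t⟩ : G) * x *
          (π ⟨t * s * t⁻¹, hM.conj_mem _ (hSM s.2) t⟩ : G)⁻¹ = x := by
        rw [← h4]
        exact h5
      exact mul_inv_eq_iff_eq_mul.1 h6
  have hTα : ∀ t (h : t ∈ T) (s : S), (α : S → ℂ) ⟨t * s * t⁻¹,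
      (Subgroup.mem_normalizer_iff.1 (hTN t h) s).1 s.2⟩ = (α : S → ℂ) s := by
    intro t h s
    have h1 := hTel t h ⟨s, hSM s.2⟩
    rw [hθs] at h1
    rw [← h1, ← hθs ⟨t * s * t⁻¹, (Subgroup.mem_normalizer_iff.1 (hTN t h) s).1 s.2⟩
      (hM.conj_mem _ (hSM s.2) t)]
  -- the action on `S`
  let c : T →* MulAut S := (Subgroup.normalizerMonoidHom S).comp (Subgroup.inclusion hTN)
  have hc : ∀ (t : T) (s : S), ((c t s : S) : G) = t * s * (t : G)⁻¹ := fun t s => rfl
  let B := c.range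
  let q : T →* B := c.rangeRestrict
  let j : S →* B := q.comp (Subgroup.inclusion hST)
  have hjv : ∀ s : S, ((j s : B) : MulAut S) = MulAut.conj s := by
    intro s
    ext x
    rfl
  have hjinj : Function.Injective j := by
    intro a b hab
    have h1 : (MulAut.conj a : MulAut S) = MulAut.conj b := by rw [← hjv, ← hjv, hab]
    have h2 : b⁻¹ * a = 1 := by
      apply eq_one_of_central hSna
      intro x
      have h3 : a * x * a⁻¹ = b * x * b⁻¹ := DFunLike.congr_fun h1 x
      calc b⁻¹ * a * x = b⁻¹ * (a * x * a⁻¹) * a := by group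
        _ = b⁻¹ * (b * x * b⁻¹) * a := by rw [h3]
        _ = x * (b⁻¹ * a) := by group
    exact (inv_mul_eq_one.1 h2).symm
  have hconj : ∀ (t : T) (s s' : S), (s' : G) = t * s * (t : G)⁻¹ → q t * j s * (q t)⁻¹ = j s' := by
    intro t s s' hs
    apply Subtype.ext
    ext x
    show (t : G) * ((s : G) * ((t : G)⁻¹ * x * ((t : G)⁻¹)⁻¹) * (s : G)⁻¹) * (t : G)⁻¹ =
      (s' : G) * x * (s' : G)⁻¹
    rw [hs]
    group
  have hqs : Function.Surjective q := c.rangeRestrict_surjective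
  have hjn : j.range.Normal := by
    refine ⟨?_⟩
    rintro _ ⟨s, rfl⟩ b
    obtain ⟨t, rfl⟩ := hqs b
    exact ⟨⟨(t : G) * s * (t : G)⁻¹,
      (Subgroup.mem_normalizer_iff.1 (hTN t t.2) s).1 s.2⟩, (hconj t s _ rfl).symm⟩
  obtain ⟨β, e, hβ, he0, he, hβe⟩ := exists_over_hom j hjinj hjn α.2 (by
    intro b s s' h
    obtain ⟨t, rfl⟩ := hqs b
    rw [hconj t s ⟨(t : G) * s * (t : G)⁻¹,
      (Subgroup.mem_normalizer_iff.1 (hTN t t.2) s).1 s.2⟩ rfl] at h
    rw [hjinj h]
    exact hTα t t.2 s)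
  have hidx : j.range.index ≤ (MulAut.conj : S →* MulAut S).range.index := by
    have h1 : j.range = (MulAut.conj : S →* MulAut S).range.subgroupOf B := by
      ext b
      constructor
      · rintro ⟨s, rfl⟩
        exact ⟨s, (hjv s).symm⟩
      · rintro ⟨s, hs⟩
        exact ⟨s, Subtype.ext ((hjv s).trans hs)⟩
    rw [h1]
    have h2 := Subgroup.relIndex_le_of_le_right (H := (MulAut.conj : S →* MulAut S).range)
      (K := B) (L := ⊤) le_top (by
        rw [Subgroup.relIndex_top_right]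
        exact Subgroup.index_ne_zero_of_finite)
    rwa [Subgroup.relIndex_top_right] at h2
  -- the character of `T`
  have hψ : IsIrrCharacter T (β ∘ q) := isIrr_comp q hqs hβ
  have hres : resTo hMT (β ∘ q) = (e : ℂ) • θ := by
    funext m
    show β (q ⟨m, hMT m.2⟩) = e * (α : S → ℂ) (π m)
    rw [← hβe]
    congr 1
    apply Subtype.ext
    rw [hjv]
    ext x
    exact hπ1 m x
  have hTf : Fintype T := Fintype.ofFinite _
  have hee : (e : ℂ) ≠ 0 := by exact_mod_cast he0
  have h1 := count M hMG hirrθ T hmem hMT hψ (m := e ^ 2) (d := e * charDegree (α : S → ℂ))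
    (by rw [hres, classInner_smul_left, classInner_irr_self hirrθ, mul_one]; exact hee)
    (by
      rw [hres, classInner_smul_left, classInner_smul_right, classInner_irr_self hirrθ,
        Complex.conj_natCast]
      push_cast
      ring)
    (by
      apply Cfsg.Agent.Blocks.Basic.charDegree_of_eq
      have h2 := hβe 1
      rw [map_one, Cfsg.Agent.Blocks.Basic.irr_one_eq_charDegree α.2] at h2
      show β (q 1) = _
      rw [map_one, h2]
      push_cast
      rfl)
  refine ⟨T, e, fun χ => classInner (res M χ) θ ≠ 0, hMT, fun t ht => ⟨hTN t ht, hTα t ht⟩, he0,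
    he.trans hidx, h1.trans ?_⟩
  exact Nat.mul_le_mul_right _ (Nat.mul_le_mul_right _
    (Cfsg.Agent.H705.StrongLin.card_hom_le T))

theorem num_three {L t e a b n : ℕ} (hL : 1 ≤ L) (ht : t ≠ 0) (he : e ≠ 0) (ha : 3 ≤ a)
    (hea : e ^ 2 < a ^ 2) (hn : n ≤ t * e ^ 2 * b) :
    (L - 1) * n ≤ b * (t * (e * a) * (L + 1) - 2 * L) := by
  obtain ⟨l, rfl⟩ : ∃ l, L = l + 1 := ⟨L - 1, by omega⟩
  rw [Nat.add_sub_cancel]
  have hea' : e + 1 ≤ a := Nat.succ_le_of_lt (lt_of_pow_lt_pow_left₀ 2 (Nat.zero_le _) hea)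
  obtain ⟨q, hq⟩ : ∃ q, q = t * e := ⟨_, rfl⟩
  have hq1 : 1 ≤ q := by
    rw [hq]
    exact Nat.one_le_iff_ne_zero.2 (Nat.mul_ne_zero ht he)
  have key : l * (t * e ^ 2) + 2 * (l + 1) ≤ t * (e * a) * (l + 1 + 1) := by
    have e1 : l * (t * e ^ 2) = l * (q * e) := by rw [hq]; ring
    have e2 : t * (e * a) * (l + 1 + 1) = q * a * (l + 2) := by rw [hq]; ring
    rw [e1, e2]
    rcases Nat.lt_or_ge 1 q with h2 | h2
    · have h3 : q * (e + 1) * (l + 2) ≤ q * a * (l + 2) :=
        Nat.mul_le_mul_right _ (Nat.mul_le_mul_left _ hea')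
      have h4 : q * (e + 1) * (l + 2) = l * (q * e) + 2 * (q * e) + q * (l + 2) := by ring
      have h5 : 2 * (l + 2) ≤ q * (l + 2) := Nat.mul_le_mul_right _ h2
      omega
    · have hq' : q = 1 := by omega
      have he1 : e = 1 := by
        rw [hq'] at hq
        exact Nat.eq_one_of_mul_eq_one_left hq.symm
      rw [hq', he1]
      have h3 : 1 * 3 * (l + 2) ≤ 1 * a * (l + 2) :=
        Nat.mul_le_mul_right _ (Nat.mul_le_mul_left _ ha)
      omega
  have h2 : l * (t * e ^ 2) ≤ t * (e * a) * (l + 1 + 1) - 2 * (l + 1) := by omega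
  calc l * n ≤ l * (t * e ^ 2 * b) := Nat.mul_le_mul_left _ hn
    _ = b * (l * (t * e ^ 2)) := by ring
    _ ≤ _ := Nat.mul_le_mul_left _ h2

/-- Ito-Michler for simple groups, at `p`. -/
def IMp (p : ℕ) : Prop := ∀ (S : Type u) [Group S] [Finite S] [IsSimpleGroup S],
  ¬ IsMulCommutative S → p ∣ Nat.card S → ∃ χ : IrrCharacter S, p ∣ charDegree (χ : S → ℂ)

/-- The order of `Out` is less than the square of any nontrivial degree. -/
def OutDeg : Prop := ∀ (S : Type u) [Group S] [Finite S] [IsSimpleGroup S],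
  ¬ IsMulCommutative S → ∀ χ : IrrCharacter S, charDegree (χ : S → ℂ) ≠ 1 →
    3 ≤ charDegree (χ : S → ℂ) ∧
    (MulAut.conj : S →* MulAut S).range.index < charDegree (χ : S → ℂ) ^ 2

/-- A nonabelian simple group has an irreducible character of degree greater than one. -/
theorem exists_nonlinear {S : Type u} [Group S] [Finite S] [IsSimpleGroup S]
    (hS : ¬ IsMulCommutative S) : ∃ χ : IrrCharacter S, charDegree (χ : S → ℂ) ≠ 1 := by
  classical
  by_contra hcon
  push Not at hcon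
  apply hS
  refine ⟨⟨fun a b => ?_⟩⟩
  have h1 : IsConj (a * b) (b * a) := isConj_iff.2 ⟨b, by group⟩
  -- all characters are linear, so commutators are conjugate to `1`
  have h2 : IsConj (a * b * (b * a)⁻¹) 1 := by
    rw [Cfsg.Agent.Characters.GaloisIrr.isConj_iff_forall_irr]
    intro χ hχ
    obtain ⟨f, hf⟩ := Cfsg.Agent.Characters.Linear.exists_hom_of_isIrrCharacter hχ (by
      rw [Cfsg.Agent.Blocks.Basic.irr_one_eq_charDegree hχ, hcon ⟨χ, hχ⟩, Nat.cast_one])
    rw [hf]
    show ((f (a * b * (b * a)⁻¹) : ℂˣ) : ℂ) = f 1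
    rw [map_mul, map_inv, map_mul, map_mul, mul_comm (f b), mul_inv_cancel, map_one]
  rw [isConj_one_left, mul_inv_eq_one] at h2
  exact h2

theorem nonabelian_case {G : Type u} [Group G] [Finite G] {p L : ℕ} [hp : Fact p.Prime]
    (hL : 1 ≤ L) (hIM : IMp.{u} p) (hOut : OutDeg.{u}) (P : Sylow p G)
    (hP : ¬ (P : Subgroup G).Normal) (M : Subgroup G) [hM : M.Normal] (hM0 : M ≠ ⊥)
    (hMG : M ≤ commutator G) (hmin : ∀ K : Subgroup G, K.Normal → K ≤ M → K = ⊥ ∨ K = M)
    (hna : ¬ ∀ a ∈ M, ∀ b ∈ M, a * b = b * a)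
    (hF : M ⊔ Subgroup.normalizer ((P : Subgroup G) : Set G) = ⊤) :
    (L - 1) * Nat.card (G →* ℂˣ) ≤ W p L G := by
  classical
  have := Fintype.ofFinite G
  have := Fintype.ofFinite M
  obtain ⟨S, hSM, hMN, hsimple, hSna, hMS, hcj⟩ :=
    Cfsg.Agent.H612.MinNormal.exists_factor M hM0 hmin hna
  obtain ⟨π, hπ1, hπ2⟩ := exists_proj hMS (fun z hz => eq_one_of_central hSna hz)
  -- it is enough to find `α` with `p ∣ |G : T| α(1)`
  suffices hsuff : ∃ α : IrrCharacter S, charDegree (α : S → ℂ) ≠ 1 ∧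
      ∀ T : Subgroup G, M ≤ T → (∀ t ∈ T, ∃ h : t ∈ Subgroup.normalizer (S : Set G), ∀ s : S,
        (α : S → ℂ) ⟨t * s * t⁻¹, (Subgroup.mem_normalizer_iff.1 h s).1 s.2⟩ = (α : S → ℂ) s) →
        p ∣ T.index ∨ p ∣ charDegree (α : S → ℂ) by
    obtain ⟨α, hα, hdvd⟩ := hsuff
    obtain ⟨T, e, Q, hMT, hT, he0, he, hcount⟩ :=
      nab_count M hMG hSna hSM hcj π hπ1 hπ2 α hα
    obtain ⟨h3, hout⟩ := hOut S hSna α hα
    have hd : p ∣ T.index * (e * charDegree (α : S → ℂ)) := by
      rcases hdvd T hMT hT with h | h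
      · exact Dvd.dvd.mul_right h _
      · exact Dvd.dvd.mul_left (Dvd.dvd.mul_left h _) _
    have h4 := num_three hL Subgroup.index_ne_zero_of_finite he0 h3 (he.trans_lt hout) hcount
    have h5 := card_mul_le (L := L) hd Q
    exact h4.trans h5
  by_cases hpS : p ∣ Nat.card S
  · obtain ⟨α, hα⟩ := hIM S hSna hpS
    refine ⟨α, ?_, fun T _ _ => Or.inr hα⟩
    intro h1
    rw [h1] at hα
    exact hp.out.one_lt.not_ge (Nat.le_of_dvd one_pos hα)
  · -- a conjugate of an element of `P` does not centralize `S`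
    have hle := not_le_normalizer P hP hF
    obtain ⟨x, hx, g, hxg⟩ : ∃ x ∈ P, ∃ g : G, ∃ s ∈ S, (g * x * g⁻¹) * s ≠ s * (g * x * g⁻¹) := by
      by_contra hcon
      push Not at hcon
      apply hle
      have h1 : Subgroup.normalClosure (S : Set G) = M := by
        rcases hmin (Subgroup.normalClosure (S : Set G)) inferInstance
          (Subgroup.normalClosure_le_normal hSM) with h | h
        · exfalso
          apply hSna
          have h2 : S ≤ ⊥ := by
            rw [← h]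
            exact Subgroup.subset_normalClosure
          refine ⟨⟨fun a b => ?_⟩⟩
          have h3 : a = 1 := Subtype.ext (Subgroup.mem_bot.1 (h2 a.2))
          have h4 : b = 1 := Subtype.ext (Subgroup.mem_bot.1 (h2 b.2))
          rw [h3, h4]
        · exact h
      have h2 : M ≤ Subgroup.centralizer ((P : Subgroup G) : Set G) := by
        rw [← h1]
        show Subgroup.closure (Group.conjugatesOfSet (S : Set G)) ≤ _
        rw [Subgroup.closure_le]
        intro z hz
        obtain ⟨s, hs, hsz⟩ := Group.mem_conjugatesOfSet_iff.1 hz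
        obtain ⟨g, rfl⟩ := isConj_iff.1 hsz
        rw [SetLike.mem_coe, Subgroup.mem_centralizer_iff]
        intro x hx
        have h3 := hcon x hx g⁻¹ s hs
        calc x * (g * s * g⁻¹) = g * ((g⁻¹ * x * g⁻¹⁻¹) * s) * g⁻¹ := by group
          _ = g * (s * (g⁻¹ * x * g⁻¹⁻¹)) * g⁻¹ := by rw [h3]
          _ = g * s * g⁻¹ * x := by group
      exact h2.trans (Subgroup.centralizer_le_normalizer _)
    set y := g * x * g⁻¹ with hy
    have hyp : ∃ k : ℕ, y ^ p ^ k = 1 := by
      obtain ⟨k, hk⟩ := P.isPGroup' ⟨x, hx⟩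
      refine ⟨k, ?_⟩
      have hk' : x ^ p ^ k = 1 := congrArg Subtype.val hk
      rw [hy, conj_pow, hk', mul_one, mul_inv_cancel]
    have hdvd : ∀ T : Subgroup G, M ≤ T → y ∉ T → p ∣ T.index := fun T hMT hyT =>
      dvd_index P hMT hF hx hyT
    by_cases hyN : y ∈ Subgroup.normalizer (S : Set G)
    · obtain ⟨α, s, hne⟩ := exists_char_moved hyN hyp hpS hxg
      refine ⟨α, ?_, fun T hMT hT => Or.inl (hdvd T hMT fun hyT => ?_)⟩
      · intro h1
        apply hne
        obtain ⟨f, hf⟩ := Cfsg.Agent.Characters.Linear.exists_hom_of_isIrrCharacter α.2 (by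
          rw [Cfsg.Agent.Blocks.Basic.irr_one_eq_charDegree α.2, h1, Nat.cast_one])
        have htriv : ∀ z : S, f z = 1 := by
          rcases (inferInstance : f.ker.Normal).eq_bot_or_eq_top with h | h
          · exfalso
            apply hSna
            refine ⟨⟨fun a b => ?_⟩⟩
            have hinj : Function.Injective f := (MonoidHom.ker_eq_bot_iff f).1 h
            apply hinj
            rw [map_mul, map_mul, mul_comm]
          · intro z
            exact MonoidHom.mem_ker.1 (h ▸ Subgroup.mem_top z)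
        rw [hf]
        show ((f _ : ℂˣ) : ℂ) = f _
        rw [htriv, htriv]
      · obtain ⟨h, h'⟩ := hT y hyT
        exact hne (h' s)
    · obtain ⟨α, hα⟩ := exists_nonlinear hSna
      refine ⟨α, hα, fun T hMT hT => Or.inl (hdvd T hMT fun hyT => ?_)⟩
      obtain ⟨h, -⟩ := hT y hyT
      exact hyN h

/-- A nontrivial finite group has a minimal normal subgroup below a nontrivial normal one. -/
theorem exists_min_normal {G : Type u} [Group G] [Finite G] (N : Subgroup G) [hN : N.Normal]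
    (hN0 : N ≠ ⊥) : ∃ M : Subgroup G, M.Normal ∧ M ≠ ⊥ ∧ M ≤ N ∧
      ∀ K : Subgroup G, K.Normal → K ≤ M → K = ⊥ ∨ K = M := by
  have hne : ({K : Subgroup G | K.Normal ∧ K ≠ ⊥ ∧ K ≤ N}).Nonempty := ⟨N, hN, hN0, le_rfl⟩
  obtain ⟨M, hM⟩ := (Set.toFinite {K : Subgroup G | K.Normal ∧ K ≠ ⊥ ∧ K ≤ N}).exists_minimal hne
  refine ⟨M, hM.1.1, hM.1.2.1, hM.1.2.2, fun K hK hKM => ?_⟩
  by_cases h : K = ⊥
  · exact Or.inl h
  · exact Or.inr (le_antisymm hKM (hM.2 ⟨hK, h, hKM.trans hM.1.2.2⟩ hKM))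

/-- **Main theorem.** -/
theorem main {p L : ℕ} [hp : Fact p.Prime] (hnum : Num p L) (hIM : IMp.{u} p)
    (hOut : OutDeg.{u}) : ∀ (n : ℕ) (G : Type u) [Group G] [Finite G], Nat.card G ≤ n →
      ∀ P : Sylow p G, ¬ (P : Subgroup G).Normal → (L - 1) * Nat.card (G →* ℂˣ) ≤ W p L G := by
  intro n
  induction n with
  | zero =>
    intro G _ _ hn
    exact absurd hn (by have := Nat.card_pos (α := G); omega)
  | succ n ih =>
    intro G _ _ hn P hP
    have hcomm : commutator G ≠ ⊥ := by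
      intro h
      apply hP
      have h1 := (commutator_eq_bot_iff_center_eq_top G).1 h
      have h2 : (P : Subgroup G) ≤ Subgroup.center G := h1 ▸ le_top
      refine ⟨fun x hx g => ?_⟩
      have h3 := Subgroup.mem_center_iff.1 (h2 hx) g
      rw [h3, mul_inv_cancel_right]
      exact hx
    obtain ⟨M, hM, hM0, hMG, hmin⟩ := exists_min_normal (commutator G) hcomm
    by_cases hq : ∀ Q : Sylow p (G ⧸ M), (Q : Subgroup (G ⧸ M)).Normal
    · have hF := frattini P M hq
      by_cases hab : ∀ a ∈ M, ∀ b ∈ M, a * b = b * a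
      · exact abelian_case hnum P hP M hM0 hMG hmin hab hF
      · exact nonabelian_case hnum.pos hIM hOut P hP M hM0 hMG hmin hab hF
    · push Not at hq
      obtain ⟨Q, hQ⟩ := hq
      have hlt : Nat.card (G ⧸ M) ≤ n := by
        have h1 := Subgroup.card_mul_index M
        have h2 : 1 < Nat.card M := by
          rcases Nat.lt_or_ge 1 (Nat.card M) with h | h
          · exact h
          · exact absurd (Subgroup.card_eq_one.1 (le_antisymm h Nat.card_pos)) hM0
        have h3 : 0 < M.index := Nat.pos_of_ne_zero Subgroup.index_ne_zero_of_finite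
        rw [← Subgroup.index_eq_card]
        nlinarith
      have h1 := ih (G ⧸ M) hlt Q hQ
      rw [card_hom_quotient G M hMG] at h1
      exact h1.trans (W_le_of_surjective (QuotientGroup.mk' M) (QuotientGroup.mk'_surjective M))

/-- **S4830 from the facts on simple groups.** -/
theorem reduction (p : ℕ) [hp : Fact p.Prime] (ℓ : ℕ) (hℓ : 0 < ℓ)
    (hmin : ∀ m : ℕ, 0 < m → m < ℓ → ¬ IsPrimePow (m * p + 1)) (hIM : IMp.{u} p)
    (hOut : OutDeg.{u}) {G : Type u} [Group G] [Finite G]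
    (hacd : (∑ᶠ χ : {χ : IrrCharacter G //
      charDegree (χ : G → ℂ) = 1 ∨ p ∣ charDegree (χ : G → ℂ)}, charDegree (χ.1 : G → ℂ)) *
      (ℓ * p + 1) < 2 * ℓ * p * Nat.card {χ : IrrCharacter G //
        charDegree (χ : G → ℂ) = 1 ∨ p ∣ charDegree (χ : G → ℂ)}) (P : Sylow p G) :
    (P : Subgroup G).Normal := by
  by_contra hP
  have h1 := main (num_of_min hp.out hℓ hmin) hIM hOut (Nat.card G) G le_rfl P hP
  have h2 := lt_of_acd (L := ℓ * p) hp.out.two_le (by rwa [← mul_assoc])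
  exact absurd h2 (not_lt.2 h1)

end Cfsg.Agent.H685.Acd
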