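import Cfsg.Agent.H677.FusedDeg
import Cfsg.Agent.Characters.Core
import Cfsg.Agent.Blocks.Basic
import Cfsg.Agent.OddOrderCharacters.PF9.CliffGen

/-!
# Lower bounds for the degrees of the characters of a simple group

* `card_le_of_character` : the number of irreducible constituents is at most the degree;
* `rank_le` : a faithful character of degree `n` and an elementary abelian subgroup of order `p ^ k`:
  `k ≤ n`;
* `Sq F K` : `K` contains the additive group of `F`, with conjugations inducing the multiplications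
  by squares; then `|F| - 1 ≤ 2 χ(1)` (`|F| - 1 ≤ χ(1)` if `|F|` is even).
-/

set_option autoImplicit false
set_option linter.unusedSectionVars false

namespace Cfsg.Agent.H685.DegLow

open Cfsg
open scoped ComplexConjugate
open Cfsg.Agent.Characters.Core
open Cfsg.Agent.OddOrderCharacters.PF9.CliffGen (exists_hom_of_ker eq_of_re_le)

universe u v w

theorem card_le_of_character {A : Type v} [Group A] [Fintype A] {χ : A → ℂ}
    (hχ : IsCharacter A χ) {n : ℕ} (hn : χ 1 = n) (S : Finset (IrrCharacter A))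
    (hS : ∀ ψ ∈ S, classInner χ (ψ : A → ℂ) ≠ 0) : S.card ≤ n := by
  classical
  have hfin : Finite (IrrCharacter A) := finite_irr
  have hft : Fintype (IrrCharacter A) := Fintype.ofFinite _
  obtain ⟨m, hm⟩ := isCharacter_iff.1 hχ
  have h1 : n = ∑ ψ : IrrCharacter A, m ψ * charDegree (ψ : A → ℂ) := by
    have h2 := congrFun hm 1
    rw [hn, Finset.sum_apply] at h2
    have h3 : ((n : ℕ) : ℂ) = ((∑ ψ : IrrCharacter A, m ψ * charDegree (ψ : A → ℂ) : ℕ) : ℂ) := by
      rw [h2, Nat.cast_sum]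
      refine Finset.sum_congr rfl fun ψ _ => ?_
      rw [Pi.smul_apply, nsmul_eq_mul, Cfsg.Agent.Blocks.Basic.irr_one_eq_charDegree ψ.2,
        Nat.cast_mul]
    exact_mod_cast h3
  rw [h1, Finset.card_eq_sum_ones]
  refine (Finset.sum_le_sum fun ψ hψ => ?_).trans
    (Finset.sum_le_sum_of_subset (Finset.subset_univ S))
  have h4 := hS ψ hψ
  rw [hm, classInner_sum_nsmul_irr] at h4
  have h5 : m ψ ≠ 0 := by exact_mod_cast h4
  exact Nat.succ_le_of_lt (Nat.mul_pos (Nat.pos_of_ne_zero h5)
    (Cfsg.Agent.Blocks.Basic.charDegree_pos ψ.2))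

/-- A nonlinear character of a simple group is faithful. -/
theorem faithful {K : Type u} [Group K] [Finite K] [IsSimpleGroup K] {χ : K → ℂ}
    (hχ : IsIrrCharacter K χ) (h1 : charDegree χ ≠ 1) {x : K} (hx : χ x = χ 1) : x = 1 := by
  obtain ⟨n, ρ, hρ, rfl⟩ := hχ
  have hker : ∀ y, ρ.character y = ρ.character 1 ↔ ρ y = 1 := by
    intro y
    rw [Representation.char_one]
    exact Cfsg.Agent.Characters.Values.character_eq_finrank_iff ρ y
  rcases (inferInstance : (MonoidHom.ker ρ).Normal).eq_bot_or_eq_top with h | h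
  · have h2 : x ∈ MonoidHom.ker ρ := MonoidHom.mem_ker.2 ((hker x).1 hx)
    rw [h] at h2
    exact h2
  · exfalso
    apply h1
    have hirr : IsIrrCharacter K ρ.character := ⟨n, ρ, hρ, rfl⟩
    obtain ⟨f, hf⟩ := exists_hom_of_ker hirr (fun y _ => (hker y).2 (MonoidHom.mem_ker.1
      (h ▸ Subgroup.mem_top y)))
    rw [hf]
    exact Cfsg.Agent.Blocks.Basic.charDegree_of_eq (by simp)

/-- Elements at which all constituents take the value one. -/
theorem eq_one_of_constituents {A : Type v} [CommGroup A] [Fintype A] {χ : A → ℂ}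
    (hχ : IsCharacter A χ) {a : A}
    (h : ∀ lam : A →* ℂˣ, classInner χ (fun x => (lam x : ℂ)) ≠ 0 → lam a = 1) : χ a = χ 1 := by
  classical
  have hfin : Finite (IrrCharacter A) := finite_irr
  have hft : Fintype (IrrCharacter A) := Fintype.ofFinite _
  rw [classFunction_eq_sum (isCharacter_isClassFunction hχ), Finset.sum_apply, Finset.sum_apply]
  refine Finset.sum_congr rfl fun ψ _ => ?_
  rw [Pi.smul_apply, Pi.smul_apply]
  by_cases h0 : classInner χ (ψ : A → ℂ) = 0
  · rw [h0, zero_smul, zero_smul]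
  · obtain ⟨lam, hlam⟩ := exists_hom_of_ker ψ.2 (by
      intro y hy
      have h2 : commutator A = ⊥ := by
        rw [commutator_eq_bot_iff_center_eq_top]
        exact CommGroup.center_eq_top
      rw [h2, Subgroup.mem_bot] at hy
      rw [hy])
    rw [hlam] at h0 ⊢
    show _ • ((lam a : ℂˣ) : ℂ) = _ • ((lam 1 : ℂˣ) : ℂ)
    rw [h lam h0, map_one]

theorem finite_hom (A : Type v) [Group A] [Finite A] : Finite (A →* ℂˣ) := by
  have := finite_irr (G := A)
  exact Finite.of_injective
    (fun f : A →* ℂˣ => (⟨fun g => (f g : ℂ),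
      Cfsg.Agent.Characters.Linear.isIrrCharacter_hom f⟩ : IrrCharacter A)) (by
      intro f f' h
      refine MonoidHom.ext fun g => Units.ext ?_
      exact congrFun (congrArg Subtype.val h) g)

/-- The number of linear constituents is at most the degree. -/
theorem card_linear_le {A : Type v} [Group A] [Fintype A] {χ : A → ℂ}
    (hχ : IsCharacter A χ) {n : ℕ} (hn : χ 1 = n) :
    Nat.card {lam : A →* ℂˣ // classInner χ (fun x => (lam x : ℂ)) ≠ 0} ≤ n := by
  classical
  have hfin : Finite (IrrCharacter A) := finite_irr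
  have hft : Fintype (IrrCharacter A) := Fintype.ofFinite _
  have hfh := finite_hom A
  have h1 : Nat.card {lam : A →* ℂˣ // classInner χ (fun x => (lam x : ℂ)) ≠ 0} ≤
      Nat.card {ψ : IrrCharacter A // classInner χ (ψ : A → ℂ) ≠ 0} := by
    refine Nat.card_le_card_of_injective
      (fun l : {lam : A →* ℂˣ // classInner χ (fun x => (lam x : ℂ)) ≠ 0} =>
        (⟨⟨fun g => (l.1 g : ℂ), Cfsg.Agent.Characters.Linear.isIrrCharacter_hom l.1⟩, l.2⟩ :
          {ψ : IrrCharacter A // classInner χ (ψ : A → ℂ) ≠ 0})) ?_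
    intro l l' h
    refine Subtype.ext (MonoidHom.ext fun g => Units.ext ?_)
    exact congrFun (congrArg (fun x : {ψ : IrrCharacter A // classInner χ (ψ : A → ℂ) ≠ 0} =>
      (x.1 : A → ℂ)) h) g
  refine h1.trans ?_
  rw [Nat.card_eq_fintype_card, Fintype.card_subtype]
  exact card_le_of_character hχ hn _ (fun ψ hψ => (Finset.mem_filter.1 hψ).2)

/-- **Rank bound.** -/
theorem rank_le {K : Type u} [Group K] [Finite K] [IsSimpleGroup K] {χ : K → ℂ}
    (hχ : IsIrrCharacter K χ) (h1 : charDegree χ ≠ 1) {A : Type v} [CommGroup A] [Finite A]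
    (f : A →* K) (hf : Function.Injective f) {p k : ℕ} (hp : 1 < p) (hA : ∀ a : A, a ^ p = 1)
    (hk : p ^ k ≤ Nat.card A) : k ≤ charDegree χ := by
  classical
  have := Fintype.ofFinite A
  have hfh := finite_hom A
  have hc : IsCharacter A (fun a => χ (f a)) := isCharacter_comp f (isIrr_isCharacter hχ)
  let L := {lam : A →* ℂˣ // classInner (fun a => χ (f a)) (fun x => (lam x : ℂ)) ≠ 0}
  have := Fintype.ofFinite L
  have hL : Nat.card L ≤ charDegree χ := card_linear_le hc (by
    rw [map_one, Cfsg.Agent.Blocks.Basic.irr_one_eq_charDegree hχ])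
  refine le_trans ?_ hL
  have : NeZero p := ⟨by omega⟩
  have hbot : (⨅ l : L, l.1.ker) = ⊥ := by
    rw [eq_bot_iff]
    intro a ha
    rw [Subgroup.mem_iInf] at ha
    have h2 : χ (f a) = χ (f 1) := eq_one_of_constituents hc (a := a) (fun lam hlam =>
      MonoidHom.mem_ker.1 (ha ⟨lam, hlam⟩))
    rw [map_one] at h2
    have h3 := faithful hχ h1 h2
    rw [Subgroup.mem_bot]
    exact hf (h3.trans (map_one f).symm)
  have hidx : ∀ l : L, l.1.ker.index ≤ p := by
    intro l
    rw [Subgroup.index_ker]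
    have h2 : l.1.range ≤ rootsOfUnity p ℂ := by
      rintro _ ⟨a, rfl⟩
      rw [mem_rootsOfUnity, ← map_pow, hA, map_one]
    exact (Subgroup.card_le_of_le h2).trans (card_rootsOfUnity ℂ p)
  have h4 : Nat.card A ≤ p ^ Nat.card L := by
    rw [← Subgroup.index_bot, ← hbot]
    refine (Subgroup.index_iInf_le _).trans ?_
    refine (Finset.prod_le_prod' fun l _ => hidx l).trans ?_
    rw [Finset.prod_const, Finset.card_univ, Nat.card_eq_fintype_card]
  exact (Nat.pow_le_pow_iff_right hp).1 (hk.trans h4)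

/-- `K` contains the additive group of `F`, and the multiplications by squares are induced by
conjugations. -/
def Sq (F : Type w) [Field F] (K : Type u) [Group K] : Prop :=
  ∃ f : Multiplicative F →* K, Function.Injective f ∧
    ∀ μ : F, μ ≠ 0 → ∃ g : K, ∀ s : F, g * f (Multiplicative.ofAdd s) * g⁻¹ =
      f (Multiplicative.ofAdd (μ ^ 2 * s))

theorem Sq.of_equiv {F : Type w} [Field F] {K : Type u} {K' : Type v} [Group K] [Group K']
    (h : Sq F K) (e : K ≃* K') : Sq F K' := by
  obtain ⟨f, hf, hg⟩ := h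
  refine ⟨e.toMonoidHom.comp f, e.injective.comp hf, fun μ hμ => ?_⟩
  obtain ⟨g, hg⟩ := hg μ hμ
  refine ⟨e g, fun s => ?_⟩
  show e g * e (f _) * (e g)⁻¹ = e (f _)
  rw [← hg, map_mul, map_mul, map_inv]

/-- The core: there is an injective-mod-sign map from `Fˣ` to the linear constituents. -/
theorem sq_core {F : Type w} [Field F] [Finite F] {K : Type u} [Group K] [Finite K]
    [IsSimpleGroup K] (h : Sq F K) {χ : K → ℂ} (hχ : IsIrrCharacter K χ) (h1 : charDegree χ ≠ 1) :
    ∃ (L : Type w) (_ : Finite L) (Φ : {μ : F // μ ≠ 0} → L), Nat.card L ≤ charDegree χ ∧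
      ∀ μ ν, Φ μ = Φ ν → μ.1 ^ 2 = ν.1 ^ 2 := by
  classical
  obtain ⟨f, hf, hg⟩ := h
  have hfin : Finite (Multiplicative F) := inferInstanceAs (Finite F)
  have := Fintype.ofFinite (Multiplicative F)
  have := Fintype.ofFinite K
  have hfh := finite_hom (Multiplicative F)
  have hc : IsCharacter (Multiplicative F) (fun a => χ (f a)) :=
    isCharacter_comp f (isIrr_isCharacter hχ)
  set X : Multiplicative F → ℂ := fun a => χ (f a) with hX
  have hL : Nat.card {lam : Multiplicative F →* ℂˣ // classInner X (fun x => (lam x : ℂ)) ≠ 0} ≤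
      charDegree χ := card_linear_le hc (by
    rw [hX]
    show χ (f 1) = _
    rw [map_one, Cfsg.Agent.Blocks.Basic.irr_one_eq_charDegree hχ])
  -- a nontrivial constituent
  obtain ⟨lam, hlam, hlam1⟩ : ∃ lam : Multiplicative F →* ℂˣ,
      classInner X (fun x => (lam x : ℂ)) ≠ 0 ∧ lam ≠ 1 := by
    by_contra hcon
    push Not at hcon
    have h2 : X (Multiplicative.ofAdd (1 : F)) = X 1 := eq_one_of_constituents hc (fun l hl => by
      rw [hcon l hl]
      rfl)
    have h3 := faithful hχ h1 (x := f (Multiplicative.ofAdd (1 : F))) (by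
      have h4 : X 1 = χ 1 := by
        show χ (f 1) = χ 1
        rw [map_one]
      rw [← h4]
      exact h2)
    have h5 := hf (h3.trans (map_one f).symm)
    exact one_ne_zero (α := F) (Multiplicative.ofAdd.injective h5)
  -- twisting
  let tw : F → (Multiplicative F →* Multiplicative F) := fun c =>
    AddMonoidHom.toMultiplicative (AddMonoidHom.mulLeft c)
  have htw : ∀ c s, tw c (Multiplicative.ofAdd s) = Multiplicative.ofAdd (c * s) := fun c s => rfl
  have hinv : ∀ μ : F, μ ≠ 0 → ∀ a : Multiplicative F, X (tw (μ ^ 2) a) = X a := by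
    intro μ hμ a
    obtain ⟨g, hg'⟩ := hg μ hμ
    show χ (f (Multiplicative.ofAdd (μ ^ 2 * Multiplicative.toAdd a))) = χ (f a)
    rw [← hg' (Multiplicative.toAdd a)]
    exact isIrr_isClassFunction hχ _ _
  have hcon : ∀ μ : F, μ ≠ 0 →
      classInner X (fun x => ((lam.comp (tw (μ ^ 2))) x : ℂ)) ≠ 0 := by
    intro μ hμ
    have h2 : classInner X (fun x => ((lam.comp (tw (μ ^ 2))) x : ℂ)) =
        classInner X (fun x => (lam x : ℂ)) := by
      rw [classInner_def, classInner_def]
      congr 1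
      let e : Multiplicative F ≃ Multiplicative F :=
        ⟨tw (μ ^ 2), tw ((μ ^ 2)⁻¹), fun a => by
          show Multiplicative.ofAdd ((μ ^ 2)⁻¹ * (μ ^ 2 * Multiplicative.toAdd a)) = a
          rw [inv_mul_cancel_left₀ (pow_ne_zero 2 hμ)]
          rfl, fun a => by
          show Multiplicative.ofAdd (μ ^ 2 * ((μ ^ 2)⁻¹ * Multiplicative.toAdd a)) = a
          rw [mul_inv_cancel_left₀ (pow_ne_zero 2 hμ)]
          rfl⟩
      refine Fintype.sum_equiv e _ _ fun a => ?_
      show X a * conj ((lam (tw (μ ^ 2) a) : ℂˣ) : ℂ) =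
        X (tw (μ ^ 2) a) * conj ((lam (tw (μ ^ 2) a) : ℂˣ) : ℂ)
      rw [hinv μ hμ]
    rw [h2]
    exact hlam
  refine ⟨ULift.{w} (Shrink.{w} {lam : Multiplicative F →* ℂˣ //
    classInner X (fun x => (lam x : ℂ)) ≠ 0}), inferInstance,
    fun μ => ⟨equivShrink _ ⟨lam.comp (tw (μ.1 ^ 2)), hcon μ.1 μ.2⟩⟩, ?_, ?_⟩
  · rw [Nat.card_congr Equiv.ulift, Nat.card_congr (equivShrink _).symm]
    exact hL
  · intro μ ν h2
    have h3 : lam.comp (tw (μ.1 ^ 2)) = lam.comp (tw (ν.1 ^ 2)) := by
      have h4 := (equivShrink _).injective (ULift.up_injective h2)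
      exact congrArg Subtype.val h4
    by_contra hne
    apply hlam1
    have hd : μ.1 ^ 2 - ν.1 ^ 2 ≠ 0 := sub_ne_zero.2 hne
    apply MonoidHom.ext
    intro a
    set s : F := (μ.1 ^ 2 - ν.1 ^ 2)⁻¹ * Multiplicative.toAdd a with hs
    have h5 := DFunLike.congr_fun h3 (Multiplicative.ofAdd s)
    have h6 : lam (Multiplicative.ofAdd (μ.1 ^ 2 * s)) = lam (Multiplicative.ofAdd (ν.1 ^ 2 * s)) :=
      h5
    have h7 : a = Multiplicative.ofAdd (μ.1 ^ 2 * s) * (Multiplicative.ofAdd (ν.1 ^ 2 * s))⁻¹ := by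
      rw [← ofAdd_neg, ← ofAdd_add, ← sub_eq_add_neg, ← sub_mul, hs, mul_inv_cancel_left₀ hd]
      rfl
    rw [h7, map_mul, map_inv, h6, mul_inv_cancel]
    rfl

/-- **The bound for `Sq`.** -/
theorem sq_le {F : Type w} [Field F] [Finite F] {K : Type u} [Group K] [Finite K]
    [IsSimpleGroup K] (h : Sq F K) {χ : K → ℂ} (hχ : IsIrrCharacter K χ) (h1 : charDegree χ ≠ 1) :
    Nat.card F ≤ 2 * charDegree χ + 1 := by
  classical
  obtain ⟨L, _, Φ, hL, hΦ⟩ := sq_core h hχ h1
  have := Fintype.ofFinite L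
  have := Fintype.ofFinite F
  have hfin : Fintype {μ : F // μ ≠ 0} := Fintype.ofFinite _
  have h2 : Fintype.card {μ : F // μ ≠ 0} ≤ 2 * Fintype.card L := by
    rw [← Finset.card_univ, ← Finset.card_univ (α := L)]
    refine (Finset.card_le_mul_card_image_of_maps_to (f := Φ) (t := Finset.univ)
      (fun _ _ => Finset.mem_univ _) 2 ?_)
    intro b _
    by_cases hb : ∃ μ₀, Φ μ₀ = b
    · obtain ⟨μ₀, rfl⟩ := hb
      have hsub : (Finset.univ.filter fun μ => Φ μ = Φ μ₀) ⊆
          {μ₀, ⟨-μ₀.1, neg_ne_zero.2 μ₀.2⟩} := by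
        intro μ hμ
        have h3 := hΦ μ μ₀ (Finset.mem_filter.1 hμ).2
        rw [Finset.mem_insert, Finset.mem_singleton]
        rcases sq_eq_sq_iff_eq_or_eq_neg.1 h3 with h4 | h4
        · exact Or.inl (Subtype.ext h4)
        · exact Or.inr (Subtype.ext h4)
      exact (Finset.card_le_card hsub).trans Finset.card_le_two
    · have : (Finset.univ.filter fun μ => Φ μ = b) = ∅ := by
        rw [Finset.filter_eq_empty_iff]
        intro μ _ h3
        exact hb ⟨μ, h3⟩
      rw [this, Finset.card_empty]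
      exact Nat.zero_le _
  have h3 : Fintype.card {μ : F // μ ≠ 0} = Fintype.card F - 1 := by
    rw [Fintype.card_subtype_compl, Fintype.card_subtype_eq]
  rw [h3, ← Nat.card_eq_fintype_card, ← Nat.card_eq_fintype_card] at h2
  omega

/-- The bound for `Sq` in characteristic two. -/
theorem sq_le_two {F : Type w} [Field F] [Finite F] [CharP F 2] {K : Type u} [Group K] [Finite K]
    [IsSimpleGroup K] (h : Sq F K) {χ : K → ℂ} (hχ : IsIrrCharacter K χ) (h1 : charDegree χ ≠ 1) :
    Nat.card F ≤ charDegree χ + 1 := by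
  classical
  obtain ⟨L, _, Φ, hL, hΦ⟩ := sq_core h hχ h1
  have := Fintype.ofFinite F
  have hinj : Function.Injective Φ := by
    intro μ ν h2
    have h3 := hΦ μ ν h2
    apply Subtype.ext
    rcases sq_eq_sq_iff_eq_or_eq_neg.1 h3 with h4 | h4
    · exact h4
    · rw [h4, CharTwo.neg_eq]
  have h2 := Nat.card_le_card_of_injective Φ hinj
  have h3 : Nat.card {μ : F // μ ≠ 0} = Nat.card F - 1 := by
    rw [Nat.card_eq_fintype_card, Nat.card_eq_fintype_card, Fintype.card_subtype_compl,
      Fintype.card_subtype_eq]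
  rw [h3] at h2
  omega

end Cfsg.Agent.H685.DegLow
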