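import Mathlib
import Cfsg.Agent.H954.OutDeg
import Cfsg.Agent.H934.OutCl
import Cfsg.Agent.H677.OmegaIrr
import Cfsg.Agent.H685.DegLow

/-!
# `|Out X| < χ(1)²` for the classical groups (S4830)
-/

set_option autoImplicit false

namespace Cfsg.Agent.H685.OutDegCl

open Cfsg.Agent.H934.OutB Matrix Cfsg.Agent.H954.OutDeg Cfsg.Agent.H934.OutCl
open Cfsg.Agent.ClassicalGeometry.AutPSL.Root Cfsg.Agent.H934.IdxSL Cfsg.Agent.H934.IdxCl

universe u v

theorem arith_psl {q f g : ℕ} (hq : 2 ≤ q) (hf : f < q) (hg : g ≤ q - 1) : 2 * f * g < (q ^ 2 - 1) ^ 2 := by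
  obtain ⟨a, rfl⟩ : ∃ a, q = a + 2 := ⟨q - 2, by omega⟩
  have h1 : (a + 2) ^ 2 - 1 = (a + 1) * (a + 3) := by
    have : (a + 2) ^ 2 = (a + 1) * (a + 3) + 1 := by ring
    omega
  rw [h1]
  have h2 : f ≤ a + 1 := by omega
  have h3 : g ≤ a + 1 := by omega
  have h4 : f * g ≤ (a + 1) * (a + 1) := Nat.mul_le_mul h2 h3
  nlinarith [Nat.zero_le a]

theorem arith_two {f : ℕ} : 2 * f < (max 3 f) ^ 2 := by
  rcases le_total f 3 with h | h
  · rw [max_eq_left h]; omega
  · rw [max_eq_right h]; nlinarith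

/-- `|Out| ≤ 2 f` and rank at least `f`. -/
theorem od_of_two {X : Type u} [Group X] [Finite X] [IsSimpleGroup X] (hna : ¬ IsMulCommutative X) {f : ℕ}
    (h1 : Nat.card (Cfsg.Out X) ≤ 2 * f) (h2 : MD X f) : OD X :=
  ((md_three hna).max h2).od (lt_of_le_of_lt h1 arith_two)

/-! ### The transvection subgroup -/

section tx

variable {ι : Type} {F : Type u} [Fintype ι] [DecidableEq ι] [Field F]

theorem htx {i0 j0 : ι} (h : i0 ≠ j0) (x : F) :
    (x • (Pi.single j0 1 : ι → F)) ⬝ᵥ (Pi.single i0 1 : ι → F) = 0 := by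
  rw [smul_dotProduct, hs_of h, smul_zero]

/-- One-parameter group of transvections. -/
def tx {i0 j0 : ι} (h : i0 ≠ j0) : Multiplicative F →* SpecialLinearGroup ι F where
  toFun x := tr (Pi.single i0 1) (x.toAdd • (Pi.single j0 1 : ι → F)) (htx h _)
  map_one' := by
    apply sl_ext
    intro x
    rw [tr_mulVec]
    simp
  map_mul' x y := by
    rw [tr_mul_same_center _ _ _ (htx h _) (htx h _)]
    apply sl_ext
    intro z
    rw [tr_mulVec, tr_mulVec]
    simp [add_smul]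

theorem tx_not_comm {i0 j0 : ι} (h : i0 ≠ j0) {x : Multiplicative F} (hx : x ≠ 1) :
    tx h x * tr (Pi.single j0 1 : ι → F) (Pi.single i0 1) (hs_of h.symm)
      ≠ tr (Pi.single j0 1 : ι → F) (Pi.single i0 1) (hs_of h.symm) * tx h x := by
  intro he
  have h1 := congrArg (fun A : SpecialLinearGroup ι F => (A : Matrix ι ι F) *ᵥ (Pi.single i0 1 : ι → F)) he
  have h3 : ∀ v, ((tx h x : SpecialLinearGroup ι F) : Matrix ι ι F) *ᵥ v =
      v + ((x.toAdd • (Pi.single j0 1 : ι → F)) ⬝ᵥ v) • (Pi.single i0 1 : ι → F) := fun v => by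
    show ((tr (Pi.single i0 1) (x.toAdd • (Pi.single j0 1 : ι → F)) (htx h _) : SpecialLinearGroup ι F) :
      Matrix ι ι F) *ᵥ v = _
    rw [tr_mulVec]
  simp only [sl_mul_mulVec, tr_mulVec, h3] at h1
  have h2 := congrFun h1 i0
  simp [h, h.symm] at h2
  exact hx (Multiplicative.toAdd.injective h2)

theorem md_tx [Fintype F] {Y : Type v} [Group Y] [Finite Y] {p f : ℕ} [Fact p.Prime] (hF : Fintype.card F = p ^ f)
    {i0 j0 : ι} (h : i0 ≠ j0)
    (j : SpecialLinearGroup ι F →* Y) (hj : Function.Injective j)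
    (hs : IsSimpleGroup (Y ⧸ Subgroup.center Y)) : MD (Y ⧸ Subgroup.center Y) f := by
  intro χ hχ
  have hp : CharP F p := by
    obtain ⟨r, hr⟩ := CharP.exists F
    obtain ⟨n, hr', hn⟩ := FiniteField.card F r
    have : Fact r.Prime := ⟨hr'⟩
    have h1 : r ∣ p ^ f := by rw [← hF, hn]; exact dvd_pow_self r n.ne_zero
    have h2 := (Nat.prime_dvd_prime_iff_eq hr' (Fact.out : p.Prime)).1 (hr'.dvd_of_dvd_pow h1)
    rwa [h2] at hr
  refine DegLow.rank_le (A := Multiplicative F) (p := p) χ.2 hχ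
    (((QuotientGroup.mk' (Subgroup.center Y)).comp j).comp (tx h)) ?_ (Fact.out : p.Prime).one_lt ?_ ?_
  · rw [injective_iff_map_eq_one]
    intro x hx
    by_contra hx1
    exact ne_one_of_not_comm j hj (tx_not_comm h hx1) hx
  · intro a
    apply Multiplicative.toAdd.injective
    rw [toAdd_pow, toAdd_one, nsmul_eq_mul, CharP.cast_eq_zero, zero_mul]
  · rw [Nat.card_congr Multiplicative.toAdd, Nat.card_eq_fintype_card, hF]

end tx

variable {F : Type u} [Field F] [Fintype F]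

theorem psl_ge_three {n : ℕ} (hn : 3 ≤ n) (hs : IsSimpleGroup (ProjectiveSpecialLinearGroup (Fin n) F))
    (hna : ¬ IsMulCommutative (ProjectiveSpecialLinearGroup (Fin n) F)) :
    OD (ProjectiveSpecialLinearGroup (Fin n) F) := by
  classical
  obtain ⟨p, f, hp, hf, hF⟩ := exists_pf F
  have := Fact.mk hp
  have := finite_psl (F := F) n
  have h1 := Cfsg.Agent.S0813.result (F := F) p f hf hF n (by omega) (by omega)
  rw [if_neg (by omega), card_pgl (by omega), ← mul_assoc] at h1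
  have h2 := card_out_of_aut hna h1
  obtain ⟨i0, j0, hij⟩ := Fintype.one_lt_card_iff.1 (show 1 < Fintype.card (Fin n) by
    rw [Fintype.card_fin]; omega)
  have ha1 : (Pi.single i0 1 : Fin n → F) ≠ 0 := by simp
  have h3 : MD (ProjectiveSpecialLinearGroup (Fin n) F) (Fintype.card F ^ (n - 1) - 1) := by
    refine (md_fused ((QuotientGroup.mk' (Subgroup.center (SpecialLinearGroup (Fin n) F))))
      (Qs (Pi.single i0 1 : Fin n → F)) ?_ (Qs_isConj (by rwa [Fintype.card_fin]) ha1)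
      ⟨tr _ _ (hs_of hij), mem_Qs.2 ⟨_, _, rfl⟩,
        ne_one_of_not_comm (MonoidHom.id _) Function.injective_id (not_comm hij)⟩).mono ?_
    · rintro _ ⟨φ, h, rfl⟩ _ ⟨ψ, h', rfl⟩
      rw [tr_mul_same_center _ _ _ h h', tr_mul_same_center _ _ _ h' h]
      apply sl_ext
      intro z
      rw [tr_mulVec, tr_mulVec, add_comm φ ψ]
    · have := card_Qs (F := F) i0
      rw [Fintype.card_fin] at this
      omega
  have hq : 2 ≤ Fintype.card F := Fintype.one_lt_card
  have hfq : f < Fintype.card F := by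
    rw [hF]; exact Nat.lt_pow_self hp.one_lt
  have hg : Nat.gcd n (Fintype.card F - 1) ≤ Fintype.card F - 1 := Nat.gcd_le_right _ (by omega)
  refine (h3.mono (e := Fintype.card F ^ 2 - 1) ?_).od ?_
  · have : Fintype.card F ^ 2 ≤ Fintype.card F ^ (n - 1) := Nat.pow_le_pow_right (by omega) (by omega)
    omega
  · rw [h2]
    exact arith_psl hq hfq hg

theorem psl_two (hs : IsSimpleGroup (ProjectiveSpecialLinearGroup (Fin 2) F))
    (hna : ¬ IsMulCommutative (ProjectiveSpecialLinearGroup (Fin 2) F)) (h4 : 4 ≤ Fintype.card F) :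
    OD (ProjectiveSpecialLinearGroup (Fin 2) F) := by
  classical
  obtain ⟨p, f, hp, hf, hF⟩ := exists_pf F
  have := Fact.mk hp
  have := finite_psl (F := F) 2
  have h1 := Cfsg.Agent.S0813.result (F := F) p f hf hF 2 (by omega) (fun _ => by rw [← hF]; exact h4)
  rw [if_pos rfl, card_pgl (by omega), ← mul_assoc, one_mul] at h1
  have h2 := card_out_of_aut hna h1
  refine od_of_two hna (f := f) ?_ (md_tx hF (show (0 : Fin 2) ≠ 1 by decide) (MonoidHom.id _)
    Function.injective_id hs)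
  rw [h2, mul_comm]
  exact Nat.mul_le_mul_right _ (Nat.gcd_le_left _ (by norm_num))

/-- `PSL_n(q)`. -/
theorem psl {n : ℕ} (hn : 2 ≤ n) (h4 : n = 2 → 4 ≤ Fintype.card F)
    (hs : IsSimpleGroup (ProjectiveSpecialLinearGroup (Fin n) F))
    (hna : ¬ IsMulCommutative (ProjectiveSpecialLinearGroup (Fin n) F)) :
    OD (ProjectiveSpecialLinearGroup (Fin n) F) := by
  rcases hn.eq_or_lt with rfl | hn
  · exact psl_two hs hna (h4 rfl)
  · exact psl_ge_three hn hs hna

/-- `PSp_2m(q)`. -/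
theorem psp {m : ℕ} (hm : 2 ≤ m) (h3 : m = 2 → 3 ≤ Fintype.card F) (hs : IsSimpleGroup (Cfsg.PSp m F))
    (hna : ¬ IsMulCommutative (Cfsg.PSp m F)) : OD (Cfsg.PSp m F) := by
  classical
  obtain ⟨p, f, hp, hf, hF⟩ := exists_pf F
  have := Fact.mk hp
  haveI : Finite (symplecticGroup (Fin m) F) := Subtype.finite
  haveI : Finite (Cfsg.PSp m F) := inferInstance
  have h1 := Cfsg.Agent.S0814.result (F := F) p f hf hF m hm (by rwa [hF] at h3)
  have h2 := card_out_of_aut hna h1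
  obtain ⟨i0, j0, hij⟩ := Fintype.one_lt_card_iff.1 (show 1 < Fintype.card (Fin m) by
    rw [Fintype.card_fin]; omega)
  refine od_of_two hna (f := f) ?_ (md_tx hF hij ((levSp m F).comp SpecialLinearGroup.toGL) ?_ hs)
  · rw [h2]
    apply Nat.mul_le_mul_right
    split_ifs with h
    · obtain ⟨rfl, rfl⟩ := h
      have h6 : Odd (2 ^ f - 1) := by
        obtain ⟨k, rfl⟩ : ∃ k, f = k + 1 := ⟨f - 1, by omega⟩
        have : 0 < 2 ^ k := by positivity
        rw [pow_succ]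
        exact ⟨2 ^ k - 1, by omega⟩
      rw [Nat.coprime_two_left.2 h6]
    · rw [one_mul]
      exact Nat.gcd_le_left _ (by norm_num)
  · intro x y hxy
    exact Subtype.ext (congrArg (fun g : GL (Fin m) F => (g : Matrix (Fin m) (Fin m) F)) (levSp_injective hxy))

/-! ### Unitary groups -/

section psu

open Cfsg Cfsg.Agent.LieClassical.HermBasic Cfsg.Agent.LieClassical.HermSiegel
  Cfsg.Agent.LieClassical.HermGen Cfsg.Agent.LieClassical.SUBasic Cfsg.Agent.ClassicalGeometry.PSUAutBasic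
  Cfsg.Agent.ClassicalGeometry.PSUAutSylow Cfsg.Agent.H934.IdxPSU

variable {q n : ℕ}

theorem psu_md (hF : Fintype.card F = q ^ 2) (hn : 3 ≤ n) (hs : IsSimpleGroup (Cfsg.PSU n F q)) :
    MD (Cfsg.PSU n F q) (q - 1) := by
  classical
  obtain ⟨e, f, hfr⟩ := exists_frame (F := F) (n := n) hF (by omega)
  have he0 : e ≠ 0 := by
    rintro rfl
    have := hfr.ef
    rw [herm_zero_left] at this
    exact zero_ne_one this
  have hfe : hermForm n F q f e = 1 := by rw [herm_swap hF, hfr.ef, one_pow]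
  obtain ⟨c0, hc0, hc⟩ := exists_trace_zero_ne hF
  have : Finite (Cfsg.PSU n F q) := inferInstance
  refine (md_fused (pr n F q) (transvG hF e hfr.ee) ?_ ?_ ⟨transv hF e hfr.ee c0 hc, ⟨c0, hc, rfl⟩, ?_⟩).mono ?_
  · rintro _ ⟨μ, h, rfl⟩ _ ⟨μ', h', rfl⟩
    exact transv_comm hF _ h'
  · rintro _ ⟨μ, h, rfl⟩ _ ⟨μ', h', rfl⟩ h1 h2
    exact transv_isConj hF hn he0 hfr.ee h h' (fun h0 => h1 (transv_eq_one hF hfr.ee h h0))
      (fun h0 => h2 (transv_eq_one hF hfr.ee h' h0))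
  · intro h2
    rw [Cfsg.Agent.ClassicalGeometry.PSUAutBasic.pr_eq_one_iff] at h2
    obtain ⟨c, -, -, hc'⟩ := exists_scalar_of_mem_center hF hn h2
    have h3 := hc' f
    rw [act_transv, hfe, mul_one] at h3
    have h4 := congrArg (fun v => hermForm n F q v f) h3
    simp only [herm_add_left, herm_smul_left, hfr.ff, hfr.ef, zero_add, mul_one, mul_zero] at h4
    exact hc0 h4
  · have := card_transvG hF he0 hfr.ee
    omega

/-- An isotropic vector orthogonal to the frame. -/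
theorem exists_second (hF : Fintype.card F = q ^ 2) (hn : 4 ≤ n) {e f : Fin n → F} (hfr : IsFrame q e f) :
    ∃ v : Fin n → F, v ≠ 0 ∧ hermForm n F q v v = 0 ∧ hermForm n F q v e = 0 ∧ hermForm n F q v f = 0 := by
  obtain ⟨p, p', a, b, ha, hp, hp', hpp, -, hpp'⟩ := exists_hyp_pair (q := q) hF
    (i := (⟨0, by omega⟩ : Fin n)) (j := ⟨1, by omega⟩) (by simp)
  refine ⟨p, ?_, hpp, ?_⟩
  · rintro rfl
    rw [herm_zero_left] at hpp'
    exact zero_ne_one hpp'
  · apply (hfr.mem p).1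
    rw [hp]
    exact Submodule.add_mem _ (single_mem_coordSub (by simp; omega) 1)
      (Submodule.smul_mem _ _ (single_mem_coordSub (by simp; omega) 1))

/-- Rank bound in characteristic two. -/
theorem psu_rank (hF : Fintype.card F = q ^ 2) (hn : 4 ≤ n) (hs : IsSimpleGroup (Cfsg.PSU n F q)) {f : ℕ}
    (hq : q = 2 ^ f) : MD (Cfsg.PSU n F q) (3 * f) := by
  classical
  obtain ⟨e, w, hfr⟩ := exists_frame (F := F) (n := n) hF (by omega)
  obtain ⟨v, hv0, hvv, hve, hvw⟩ := exists_second hF hn hfr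
  have hwe : hermForm n F q w e = 1 := by rw [herm_swap hF, hfr.ef, one_pow]
  have h2 : (2 : F) = 0 := by
    obtain ⟨r, hr⟩ := CharP.exists F
    obtain ⟨k, hr', hk⟩ := FiniteField.card F r
    have h1 : r ∣ 2 ^ (f * 2) := by rw [pow_mul, ← hq, ← hF, hk]; exact dvd_pow_self r k.ne_zero
    have h3 := (Nat.prime_dvd_prime_iff_eq hr' Nat.prime_two).1 (hr'.dvd_of_dvd_pow h1)
    subst h3
    exact_mod_cast CharP.cast_eq_zero F 2
  obtain ⟨c0, hc0, hc⟩ := exists_trace_zero_ne hF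
  have hcq : c0 ^ q = -c0 := by linear_combination hc
  have hS : ∀ (c μ : F), μ + μ ^ q = 0 → IsSiegel q e (c • v) μ := fun c μ h =>
    ⟨hfr.ee, by rw [herm_smul_left, hve, mul_zero], by
      rw [herm_smul_left, herm_smul_right, hvv, mul_zero, mul_zero, add_zero, h]⟩
  have hmul : ∀ (c μ c' μ' : F) (h : μ + μ ^ q = 0) (h' : μ' + μ' ^ q = 0),
      siegel hF e _ _ (hS c μ h) * siegel hF e _ _ (hS c' μ' h') =
        siegel hF e _ _ (hS (c + c') (μ + μ') (by rw [add_pow_q hF]; linear_combination h + h')) := by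
    intro c μ c' μ' h h'
    rw [siegel_mul hF (hS c μ h) (hS c' μ' h')]
    refine siegel_congr hF _ _ rfl ?_ ?_
    · rw [add_smul]
    · rw [herm_smul_left, herm_smul_right, hvv, mul_zero, mul_zero, sub_zero]
  have hz : (0 : F) + 0 ^ q = 0 := by rw [zero_pow_q hF, add_zero]
  have h0 : siegel hF e _ _ (hS 0 0 hz) = 1 := by
    rw [siegel_congr hF (hS 0 0 hz) (IsSiegel.zero hF hfr.ee) rfl (zero_smul _ _) rfl]
    exact siegel_zero hF _
  have hsc : ∀ (c μ c' μ' : F) (h : μ + μ ^ q = 0) (h' : μ' + μ' ^ q = 0), c = c' → μ = μ' →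
      siegel hF e _ _ (hS c μ h) = siegel hF e _ _ (hS c' μ' h') := by
    rintro c μ c' μ' h h' rfl rfl
    rfl
  let A0 : Subgroup (SU n F q) :=
    { carrier := {g | ∃ (c μ : F) (h : μ + μ ^ q = 0), g = siegel hF e _ _ (hS c μ h)}
      one_mem' := ⟨0, 0, hz, h0.symm⟩
      mul_mem' := by
        rintro _ _ ⟨c, μ, h, rfl⟩ ⟨c', μ', h', rfl⟩
        exact ⟨c + c', μ + μ', by rw [add_pow_q hF]; linear_combination h + h', hmul c μ c' μ' h h'⟩
      inv_mem' := by
        rintro _ ⟨c, μ, h, rfl⟩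
        refine ⟨-c, -μ, by rw [neg_pow_q hF]; linear_combination -h, ?_⟩
        rw [inv_eq_iff_mul_eq_one, hmul c μ (-c) (-μ) h (by rw [neg_pow_q hF]; linear_combination -h)]
        exact (hsc (c + -c) (μ + -μ) 0 0 (by rw [add_neg_cancel]; exact hz) hz (add_neg_cancel _)
          (add_neg_cancel _)).trans h0 }
  have hfin : Finite (Cfsg.PSU n F q) := inferInstance
  refine md_rank (A := A0.map (pr n F q)) (p := 2) ?_ (by norm_num) ?_ ?_
  · rintro _ ⟨_, ⟨c, μ, h, rfl⟩, rfl⟩ _ ⟨_, ⟨c', μ', h', rfl⟩, rfl⟩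
    rw [← map_mul, ← map_mul, hmul c μ c' μ' h h', hmul c' μ' c μ h' h]
    exact congrArg _ (hsc (c + c') (μ + μ') (c' + c) (μ' + μ)
      (by rw [add_pow_q hF]; linear_combination h + h') (by rw [add_pow_q hF]; linear_combination h + h')
      (add_comm _ _) (add_comm _ _))
  · rintro _ ⟨_, ⟨c, μ, h, rfl⟩, rfl⟩
    rw [← map_pow, sq, hmul c μ c μ h h]
    exact (congrArg (pr n F q) ((hsc (c + c) (μ + μ) 0 0
      (by rw [add_pow_q hF]; linear_combination h + h) hz (by rw [← two_mul, h2, zero_mul])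
      (by rw [← two_mul, h2, zero_mul])).trans h0)).trans (map_one _)
  · have ht : ∀ x : {x : F // x ^ q = x}, c0 * (x : F) + (c0 * (x : F)) ^ q = 0 := by
      intro x; rw [mul_pow, x.2, hcq]; ring
    have h1 : Nat.card (F × {x : F // x ^ q = x}) ≤ Nat.card (A0.map (pr n F q)) := by
      refine Nat.card_le_card_of_injective (fun x => ⟨pr n F q (siegel hF e _ _ (hS x.1 _ (ht x.2))),
        ⟨siegel hF e _ _ (hS x.1 _ (ht x.2)), ⟨x.1, c0 * x.2, ht x.2, rfl⟩, rfl⟩⟩) ?_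
      rintro ⟨c, x⟩ ⟨c', x'⟩ hxx
      have h3 := siegel_pr_inj hF (by omega) _ _ (congrArg Subtype.val hxx)
      have h4 : act (siegel hF e _ _ (hS c _ (ht x))) w = act (siegel hF e _ _ (hS c' _ (ht x'))) w := by rw [h3]
      have hwv : hermForm n F q w v = 0 := herm_eq_zero_swap hF hvw
      rw [act_siegel, act_siegel, hwe, herm_smul_right, herm_smul_right, hwv, mul_zero, mul_zero, sub_zero,
        sub_zero, mul_one, mul_one, one_smul, one_smul, add_assoc, add_assoc] at h4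
      have h5 := add_left_cancel h4
      have h6 := congrArg (fun z => hermForm n F q z w) h5
      simp only [herm_add_left, herm_smul_left, hvw, hfr.ef, mul_zero, zero_add, mul_one] at h6
      rw [h6] at h5
      have h7 := smul_left_injective F hv0 (add_right_cancel h5)
      exact Prod.ext h7 (Subtype.ext (mul_left_cancel₀ hc0 h6))
    rw [Nat.card_prod, card_fixed hF, Nat.card_eq_fintype_card, hF] at h1
    refine le_trans (le_of_eq ?_) h1
    rw [hq]; ring

theorem arith_psu_aux {q f : ℕ} {p : ℕ} (hp : p.Prime) (hf : 1 ≤ f) (hq : q = p ^ f) (h2 : q ≠ 2) (h3 : q ≠ 3)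
    (h4 : q ≠ 4) (h8 : q ≠ 8) : 2 * f + 3 ≤ q := by
  have hp2 := hp.two_le
  rcases (show f = 1 ∨ f = 2 ∨ f = 3 ∨ 4 ≤ f by omega) with rfl | rfl | rfl | h
  · rw [pow_one] at hq
    subst hq
    have : ¬ Nat.Prime 4 := by norm_num
    have : q ≠ 4 := by rintro rfl; exact this hp
    omega
  · have : p ≠ 2 := by rintro rfl; exact h4 (by rw [hq]; norm_num)
    have : 3 ≤ p := by omega
    rw [hq]
    calc 2 * 2 + 3 ≤ 3 ^ 2 := by norm_num
      _ ≤ p ^ 2 := Nat.pow_le_pow_left this 2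
  · have : p ≠ 2 := by rintro rfl; exact h8 (by rw [hq]; norm_num)
    have : 3 ≤ p := by omega
    rw [hq]
    calc 2 * 3 + 3 ≤ 3 ^ 3 := by norm_num
      _ ≤ p ^ 3 := Nat.pow_le_pow_left this 3
  · rw [hq]
    refine le_trans ?_ (Nat.pow_le_pow_left hp2 f)
    obtain ⟨k, rfl⟩ : ∃ k, f = k + 4 := ⟨f - 4, by omega⟩
    have h1 : k < 2 ^ k := Nat.lt_pow_self (by norm_num)
    rw [pow_add]
    omega

theorem arith_psu {q f g : ℕ} {p : ℕ} (hp : p.Prime) (hf : 1 ≤ f) (hq : q = p ^ f) (hg : g ≤ q + 1)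
    (h2 : q ≠ 2) (h3 : q ≠ 3) (h4 : q ≠ 4) (h8 : q ≠ 8) : g * (2 * f) < (q - 1) ^ 2 := by
  have h1 := arith_psu_aux hp hf hq h2 h3 h4 h8
  obtain ⟨a, rfl⟩ : ∃ a, q = a + 3 := ⟨q - 3, by omega⟩
  have h5 : g * (2 * f) ≤ (a + 4) * a := Nat.mul_le_mul hg (by omega)
  have h6 : a + 3 - 1 = a + 2 := by omega
  rw [h6]
  nlinarith

theorem f_of_q {p f : ℕ} (hp : p.Prime) {r k : ℕ} (hr : r.Prime) (hk : 1 ≤ k) (h : r ^ k = p ^ f) : p = r ∧ f = k := by
  have h1 : r = p := (Nat.prime_dvd_prime_iff_eq hr hp).1 (hr.dvd_of_dvd_pow (h ▸ dvd_pow_self r (by omega)))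
  subst h1
  exact ⟨rfl, (Nat.pow_right_injective hr.two_le h).symm⟩

/-- `PSU_n(q)`. -/
theorem psu (hF : Fintype.card F = q ^ 2) (hn : 3 ≤ n) (h32 : ¬ (n = 3 ∧ q = 2))
    (hs : IsSimpleGroup (Cfsg.PSU n F q)) (hna : ¬ IsMulCommutative (Cfsg.PSU n F q)) : OD (Cfsg.PSU n F q) := by
  obtain ⟨p, f', hp, hf', hF'⟩ := exists_pf F
  have := Fact.mk hp
  obtain ⟨f, -, hq⟩ : ∃ f ≤ f', q = p ^ f := (Nat.dvd_prime_pow hp).1 (by
    rw [← hF', hF]; exact dvd_pow_self q (by norm_num))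
  have hf : 1 ≤ f := by
    by_contra h0
    have : f = 0 := by omega
    subst this
    rw [hq, pow_zero, one_pow] at hF
    have := Fintype.one_lt_card (α := F)
    omega
  haveI : Finite (Cfsg.PSU n F q) := inferInstance
  have h1 := Cfsg.Agent.S0815.result (F := F) p f hf hq hF n hn h32
  have h2 := card_out_of_aut hna h1
  have hg : Nat.gcd n (q + 1) ≤ q + 1 := Nat.gcd_le_right _ (by omega)
  by_cases hq2 : q = 2
  · subst hq2
    obtain ⟨-, rfl⟩ := f_of_q (r := 2) (k := 1) hp Nat.prime_two le_rfl (by rw [← hq]; norm_num)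
    exact (md_three hna).od (by rw [h2]; omega)
  by_cases hq3 : q = 3
  · subst hq3
    obtain ⟨-, rfl⟩ := f_of_q (r := 3) (k := 1) hp Nat.prime_three le_rfl (by rw [← hq]; norm_num)
    exact (md_three hna).od (by rw [h2]; omega)
  by_cases hq4 : q = 4
  · subst hq4
    obtain ⟨rfl, rfl⟩ := f_of_q (r := 2) (k := 2) hp Nat.prime_two (by norm_num) (by rw [← hq]; norm_num)
    rcases hn.eq_or_lt with rfl | hn4
    · exact (md_three hna).od (by rw [h2]; norm_num)
    · exact (psu_rank hF hn4 hs hq).od (by rw [h2]; omega)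
  by_cases hq8 : q = 8
  · subst hq8
    obtain ⟨rfl, rfl⟩ := f_of_q (r := 2) (k := 3) hp Nat.prime_two (by norm_num) (by rw [← hq]; norm_num)
    rcases hn.eq_or_lt with rfl | hn4
    · exact (psu_md hF le_rfl hs).od (by rw [h2]; norm_num)
    · exact (psu_rank hF hn4 hs hq).od (by rw [h2]; omega)
  exact (psu_md hF hn hs).od (by rw [h2]; exact arith_psu hp hf hq hg hq2 hq3 hq4 hq8)

end psu

/-! ### Orthogonal groups -/

section orth

open Cfsg Cfsg.Agent.H686.CharKit Cfsg.Agent.LieClassical Cfsg.Agent.LieClassical.OrthCore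
  Cfsg.Agent.LieClassical.OrthTrans Cfsg.Agent.LieClassical.OrthFinite

variable {F : Type} [Field F] [Fintype F]

theorem arith_orth {p f d N : ℕ} (hp : 2 ≤ p) (hf : 1 ≤ f) (hd : (p ^ f) ^ 4 ≤ d) (hN : N ≤ 24 * f) : N < d ^ 2 := by
  have h1 : 16 ^ f ≤ d := by
    refine le_trans ?_ hd
    rw [← pow_mul, mul_comm, pow_mul]
    exact Nat.pow_le_pow_left (by calc 16 = 2 ^ 4 := by norm_num
      _ ≤ p ^ 4 := Nat.pow_le_pow_left hp 4) f
  have h2 : 256 ^ f ≤ d ^ 2 := by
    calc 256 ^ f = (16 ^ f) ^ 2 := by rw [← pow_mul, mul_comm, pow_mul]; norm_num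
      _ ≤ _ := Nat.pow_le_pow_left h1 2
  obtain ⟨k, rfl⟩ : ∃ k, f = k + 1 := ⟨f - 1, by omega⟩
  have h3 : k < 256 ^ k := Nat.lt_pow_self (by norm_num)
  rw [pow_succ] at h2
  omega

/-- `PΩ_{2m+1}(q)`. -/
theorem pomega_odd {m : ℕ} (hm : 3 ≤ m) (hodd : Odd (Fintype.card F))
    (hs : IsSimpleGroup (Cfsg.POmega F (Cfsg.quadFormOdd m F)))
    (hna : ¬ IsMulCommutative (Cfsg.POmega F (Cfsg.quadFormOdd m F))) :
    OD (Cfsg.POmega F (Cfsg.quadFormOdd m F)) := by
  classical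
  obtain ⟨p, f, hp, hf, hF⟩ := exists_pf F
  have := Fact.mk hp
  haveI : Finite (Cfsg.isometryGroup F (Cfsg.quadFormOdd m F)) := inferInstance
  haveI : Finite (Cfsg.POmega F (Cfsg.quadFormOdd m F)) := inferInstance
  have hpo : Odd p := by
    rw [hF] at hodd
    exact Nat.Odd.of_mul_left (n := p ^ (f - 1)) (by rwa [← pow_succ', Nat.sub_add_cancel hf])
  have h1 := Cfsg.Agent.S0816.result (F := F) p f hf hF hpo m hm
  have h2 := card_out_of_aut hna h1
  have h2F : (2 : F) ≠ 0 := Cfsg.Agent.LieClassical.PomegaCard.odd_card_iff.1 hodd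
  refine od_of_two hna (f := f) h2.le ?_
  intro χ hχ
  have h3 := Cfsg.Agent.H677.OmegaIrr.charDegree_ge_odd (m := m) (by omega) h2F (MulEquiv.refl _) χ (ne_one hχ)
  refine le_trans ?_ h3
  rw [Nat.card_eq_fintype_card, hF]
  calc f ≤ p ^ f := (Nat.lt_pow_self hp.one_lt).le
    _ ≤ _ := Nat.le_self_pow (by omega) _

/-- `PΩ⁺_{2m}(q)`. -/
theorem pomega_plus {m : ℕ} (hm : 4 ≤ m) (hs : IsSimpleGroup (Cfsg.POmega F (Cfsg.quadFormPlus m F)))
    (hna : ¬ IsMulCommutative (Cfsg.POmega F (Cfsg.quadFormPlus m F))) :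
    OD (Cfsg.POmega F (Cfsg.quadFormPlus m F)) := by
  classical
  obtain ⟨p, f, hp, hf, hF⟩ := exists_pf F
  have := Fact.mk hp
  haveI : Finite (Cfsg.isometryGroup F (Cfsg.quadFormPlus m F)) := inferInstance
  haveI : Finite (Cfsg.POmega F (Cfsg.quadFormPlus m F)) := inferInstance
  have h1 := Cfsg.Agent.S0817.result (F := F) p f hf hF m hm
  have h2 := card_out_of_aut hna h1
  have hN : Nat.card (Cfsg.Out (Cfsg.POmega F (Cfsg.quadFormPlus m F))) ≤ 24 * f := by
    rw [h2]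
    apply Nat.mul_le_mul_right
    split_ifs <;> norm_num
  have h3 : MD (Cfsg.POmega F (Cfsg.quadFormPlus m F)) (Fintype.card F ^ 4) := by
    rw [← OrthForms.coe_plusForm]
    intro χ hχ
    have hG : Good (OrthForms.plusForm m F) := by
      apply good_of_finite (OrthForms.nondeg_plusForm m F)
      rw [Module.finrank_fintype_fun_eq_card, Fintype.card_sum, Fintype.card_fin]
      omega
    have h4 := Cfsg.Agent.H677.OmegaIrr.charDegree_ge hG (MulEquiv.refl _) χ (ne_one hχ)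
    refine le_trans ?_ h4
    rw [Nat.card_eq_fintype_card]
    refine Nat.pow_le_pow_right Fintype.card_pos ?_
    rw [Fintype.card_sum, Fintype.card_fin]
    omega
  refine h3.od ?_
  rw [hF]
  exact arith_orth hp.two_le hf le_rfl hN

/-- `PΩ⁻_{2m}(q)`. -/
theorem pomega_minus {m : ℕ} (hm : 4 ≤ m) (a b : F)
    (hab : ∀ z₁ z₂ : F, z₁ ^ 2 + a * z₁ * z₂ + b * z₂ ^ 2 = 0 → z₁ = 0 ∧ z₂ = 0)
    (hs : IsSimpleGroup (Cfsg.POmega F (Cfsg.quadFormMinus (m - 1) F a b)))
    (hna : ¬ IsMulCommutative (Cfsg.POmega F (Cfsg.quadFormMinus (m - 1) F a b))) :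
    OD (Cfsg.POmega F (Cfsg.quadFormMinus (m - 1) F a b)) := by
  classical
  obtain ⟨p, f, hp, hf, hF⟩ := exists_pf F
  have := Fact.mk hp
  haveI : Finite (Cfsg.isometryGroup F (Cfsg.quadFormMinus (m - 1) F a b)) := inferInstance
  haveI : Finite (Cfsg.POmega F (Cfsg.quadFormMinus (m - 1) F a b)) := inferInstance
  have h1 := Cfsg.Agent.S0818.result (F := F) p f hf hF m hm a b hab
  have h2 := card_out_of_aut hna h1
  have hN : Nat.card (Cfsg.Out (Cfsg.POmega F (Cfsg.quadFormMinus (m - 1) F a b))) ≤ 24 * f := by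
    rw [h2]
    apply Nat.mul_le_mul_right
    split_ifs <;> norm_num
  have h3 : MD (Cfsg.POmega F (Cfsg.quadFormMinus (m - 1) F a b)) (Fintype.card F ^ 4) := by
    rw [← OrthForms.coe_minusForm]
    intro χ hχ
    have hG : Good (OrthForms.minusForm (m - 1) F a b) := by
      apply good_of_finite (OrthForms.nondeg_minusForm (m - 1) F a b hab)
      rw [Module.finrank_fintype_fun_eq_card, Fintype.card_sum, Fintype.card_sum, Fintype.card_fin, Fintype.card_fin]
      omega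
    have h4 := Cfsg.Agent.H677.OmegaIrr.charDegree_ge hG (MulEquiv.refl _) χ (ne_one hχ)
    refine le_trans ?_ h4
    rw [Nat.card_eq_fintype_card]
    refine Nat.pow_le_pow_right Fintype.card_pos ?_
    rw [Fintype.card_sum, Fintype.card_sum, Fintype.card_fin, Fintype.card_fin]
    omega
  refine h3.od ?_
  rw [hF]
  exact arith_orth hp.two_le hf le_rfl hN

end orth

end Cfsg.Agent.H685.OutDegCl
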