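import Cfsg.Agent.OddOrderCharacters.PF9.CliffGen
import Cfsg.Agent.H705.StrongLin

/-!
# Counting characters over an irreducible character of a normal subgroup

* `card_stab_le`: at most `[ψ_N, ψ_N]` linear characters trivial on `N` fix `ψ`.
* `count`: `N ≤ G'` normal, `ψ ∈ Irr(T | θ)`, `T` the inertia group of `θ`: the number of linear
  characters of `G` is at most `u * [ψ_N, ψ_N]` times the number of irreducible characters of `G` over
  `θ` of degree `|G : T| ψ(1)`, `u` the number of linear characters of `G` trivial on `T`.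
-/

set_option autoImplicit false
set_option linter.unusedSectionVars false

namespace Cfsg.Agent.H685.Acd

open Cfsg
open scoped ComplexConjugate commutatorElement
open Cfsg.Agent.Characters.Core
open Cfsg.Agent.OddOrderCharacters.NormalInduced (conjFn)
open Cfsg.Agent.OddOrderCharacters.IndRes (res)
open Cfsg.Agent.OddOrderCharacters.PF9.CliffGen (resTo irr_ind ind_inj isCharacter_resTo)

universe u v

theorem finite_hom (G : Type u) [Group G] [Finite G] : Finite (G →* ℂˣ) := by
  have := finite_irr (G := G)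
  exact Finite.of_injective
    (fun f : G →* ℂˣ => (⟨fun g => (f g : ℂ),
      Cfsg.Agent.Characters.Linear.isIrrCharacter_hom f⟩ : IrrCharacter G)) (by
      intro f f' h
      refine MonoidHom.ext fun g => Units.ext ?_
      exact congrFun (congrArg Subtype.val h) g)

theorem card_le_of_fiber {α β : Type*} [Finite α] [Finite β] (F : α → β) (n : ℕ)
    (h : ∀ b, Nat.card {a // F a = b} ≤ n) : Nat.card α ≤ n * Nat.card β := by
  classical
  have := Fintype.ofFinite β
  have h1 : Nat.card α = ∑ b : β, Nat.card {a // F a = b} := by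
    rw [← Nat.card_sigma]
    exact Nat.card_congr (Equiv.sigmaFiberEquiv F).symm
  rw [h1]
  calc ∑ b : β, Nat.card {a // F a = b} ≤ ∑ _b : β, n := Finset.sum_le_sum fun b _ => h b
    _ = n * Nat.card β := by
      rw [Finset.sum_const, smul_eq_mul, mul_comm, Finset.card_univ, Nat.card_eq_fintype_card]

/-- Twists fixing `ψ`, trivial on `N`: at most `[ψ_N, ψ_N]`. -/
theorem card_stab_le {T : Type u} [Group T] [Fintype T] {N : Type v} [Group N] [Fintype N]
    (i : N →* T) {ψ : T → ℂ} (hψ : IsIrrCharacter T ψ) {m : ℕ}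
    (hm : classInner (fun n : N => ψ (i n)) (fun n : N => ψ (i n)) = m) :
    Nat.card {g : T →* ℂˣ // (∀ n, g (i n) = 1) ∧ ∀ t, (g t : ℂ) * ψ t = ψ t} ≤ m := by
  classical
  have hfT : Finite (IrrCharacter T) := finite_irr
  have := Fintype.ofFinite (IrrCharacter T)
  have hfh := finite_hom T
  let Y := {g : T →* ℂˣ // (∀ n, g (i n) = 1) ∧ ∀ t, (g t : ℂ) * ψ t = ψ t}
  have := Fintype.ofFinite Y
  have hch := isIrr_isCharacter hψ
  have hρ : IsCharacter T (ψ * fun t => conj (ψ t)) := isCharacter_mul hch (isCharacter_conj hch)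
  obtain ⟨c, hc⟩ := isCharacter_iff.1 hρ
  have hk : ∀ χ : IrrCharacter T, ∃ k : ℕ,
      classInner (fun n : N => (χ : T → ℂ) (i n)) (1 : N → ℂ) = k := fun χ =>
    classInner_isNat (isCharacter_comp i (isIrr_isCharacter χ.2)) isCharacter_one
  choose k hk using hk
  have hsum : m = ∑ χ : IrrCharacter T, c χ * k χ := by
    have h1 : classInner (fun n : N => (ψ * fun t => conj (ψ t)) (i n)) (1 : N → ℂ) = m := by
      rw [← hm, classInner_def, classInner_def]
      congr 1
      refine Finset.sum_congr rfl fun n _ => ?_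
      simp
    have h2 : (fun n : N => (ψ * fun t => conj (ψ t)) (i n)) =
        ∑ χ : IrrCharacter T, (c χ : ℂ) • fun n : N => (χ : T → ℂ) (i n) := by
      funext n
      rw [hc, Finset.sum_apply, Finset.sum_apply]
      refine Finset.sum_congr rfl fun χ _ => ?_
      rw [Pi.smul_apply, Pi.smul_apply, nsmul_eq_mul, smul_eq_mul]
    rw [h2, classInner_sum_left] at h1
    have h3 : ((m : ℕ) : ℂ) = ((∑ χ : IrrCharacter T, c χ * k χ : ℕ) : ℂ) := by
      rw [← h1, Nat.cast_sum]
      refine Finset.sum_congr rfl fun χ _ => ?_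
      rw [classInner_smul_left, hk, Nat.cast_mul]
    exact_mod_cast h3
  let e : Y → IrrCharacter T := fun g => ⟨fun t => (g.1 t : ℂ),
    Cfsg.Agent.Characters.Linear.isIrrCharacter_hom g.1⟩
  have he : Function.Injective e := by
    intro f f' h
    refine Subtype.ext (MonoidHom.ext fun g => Units.ext ?_)
    exact congrFun (congrArg Subtype.val h) g
  have hc1 : ∀ g : Y, c (e g) = 1 := by
    intro g
    have h1 := classInner_sum_nsmul_irr c (e g)
    rw [← hc] at h1
    have h2 : classInner (ψ * fun t => conj (ψ t)) (e g : T → ℂ) = classInner ψ ψ := by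
      rw [classInner_def, classInner_def]
      congr 1
      refine Finset.sum_congr rfl fun t _ => ?_
      have h3 := g.2.2 t
      have h4 : conj (ψ t) = conj ((g.1 t : ℂ)) * conj (ψ t) := by
        conv_lhs => rw [← h3, map_mul]
      show ψ t * conj (ψ t) * conj ((g.1 t : ℂ)) = ψ t * conj (ψ t)
      rw [mul_assoc, mul_comm (conj (ψ t)), ← h4]
    rw [h2, classInner_irr_self hψ] at h1
    exact_mod_cast h1.symm
  have hk1 : ∀ g : Y, k (e g) = 1 := by
    intro g
    have h1 := hk (e g)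
    have h2 : (fun n : N => (e g : T → ℂ) (i n)) = 1 := by
      funext n
      show ((g.1 (i n) : ℂˣ) : ℂ) = 1
      rw [g.2.1 n, Units.val_one]
    rw [h2, classInner_irr_self isIrr_one] at h1
    exact_mod_cast h1.symm
  rw [hsum]
  calc Nat.card Y = ∑ _g : Y, 1 := by
        rw [Finset.sum_const, smul_eq_mul, mul_one, Finset.card_univ, Nat.card_eq_fintype_card]
    _ = ∑ g : Y, c (e g) * k (e g) := by
        refine Finset.sum_congr rfl fun g _ => ?_
        rw [hc1, hk1]
    _ = ∑ χ ∈ Finset.univ.map ⟨e, he⟩, c χ * k χ := by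
        rw [Finset.sum_map]
        rfl
    _ ≤ ∑ χ : IrrCharacter T, c χ * k χ :=
        Finset.sum_le_sum_of_subset (Finset.subset_univ _)

/-- An irreducible induced character lies over what its source lies over. -/
theorem over_ind {G : Type u} [Group G] [Fintype G] {N T : Subgroup G} [Fintype N] [Fintype T]
    (hNT : N ≤ T) {θ : N → ℂ} (hθ : IsIrrCharacter N θ) {ψ : T → ℂ} (hψ : IsIrrCharacter T ψ)
    (h0 : classInner (resTo hNT ψ) θ ≠ 0) (hirr : IsIrrCharacter G (indFun T ψ)) :
    classInner (res N (indFun T ψ)) θ ≠ 0 := by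
  have h5 : classInner (fun t : T => indFun T ψ (t : G)) ψ = 1 := by
    have h6 := Cfsg.Agent.OddOrderCharacters.Clifford.classInner_indFun T ψ (indFun T ψ)
      (isIrr_isClassFunction hirr)
    rw [classInner_irr_self hirr] at h6
    rw [← classInner_conj_symm, ← h6, map_one]
  have hcI2 : IsCharacter T (fun t : T => indFun T ψ (t : G)) :=
    isCharacter_comp T.subtype (isIrr_isCharacter hirr)
  have h7 := Cfsg.Agent.OddOrderCharacters.Clifford.isCharacter_sub_irr hcI2 hψ
    (by rw [h5]; exact one_ne_zero)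
  set ρ : T → ℂ := (fun t : T => indFun T ψ (t : G)) - ψ with hρ
  have h8 : res N (indFun T ψ) = resTo hNT ρ + resTo hNT ψ := by
    funext n
    show _ = ρ _ + ψ _
    rw [hρ]
    show indFun T ψ (n : G) = indFun T ψ (n : G) - ψ _ + ψ _
    rw [sub_add_cancel]
  obtain ⟨k, hk⟩ := classInner_isNat (isCharacter_resTo hNT h7) (isIrr_isCharacter hθ)
  obtain ⟨e, he⟩ := classInner_isNat (isCharacter_resTo hNT (isIrr_isCharacter hψ))
    (isIrr_isCharacter hθ)
  rw [h8, classInner_add_left, hk, he]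
  rw [he] at h0
  have he0 : e ≠ 0 := by exact_mod_cast h0
  exact_mod_cast (by omega : k + e ≠ 0)

/-- **The counting lemma.** -/
theorem count {G : Type u} [Group G] [Fintype G] (N : Subgroup G) [hN : N.Normal] [Fintype N]
    (hNG : N ≤ commutator G) {θ : N → ℂ} (hθ : IsIrrCharacter N θ) (T : Subgroup G) [Fintype T]
    (hT : ∀ g, g ∈ T ↔ conjFn N θ g = θ) (hNT : N ≤ T) {ψ : T → ℂ} (hψ : IsIrrCharacter T ψ)
    (h0 : classInner (resTo hNT ψ) θ ≠ 0) {m d : ℕ}
    (hm : classInner (resTo hNT ψ) (resTo hNT ψ) = m) (hd : charDegree ψ = d) :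
    Nat.card (G →* ℂˣ) ≤ Nat.card {f : G →* ℂˣ // ∀ t ∈ T, f t = 1} * m *
      Nat.card {χ : IrrCharacter G // charDegree (χ : G → ℂ) = T.index * d ∧
        classInner (res N χ) θ ≠ 0} := by
  classical
  have hfG : Finite (IrrCharacter G) := finite_irr
  have hfh := finite_hom G
  have hfT := finite_hom T
  let B := {χ : IrrCharacter G // charDegree (χ : G → ℂ) = T.index * d ∧
        classInner (res N χ) θ ≠ 0}
  have hfN : ∀ (a : G →* ℂˣ) (n : G), n ∈ N → a n = 1 := by
    intro a n hn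
    exact MonoidHom.mem_ker.1 (Abelianization.commutator_subset_ker a (hNG hn))
  let ps : (G →* ℂˣ) → T → ℂ := fun a t => (a.comp T.subtype t : ℂ) * ψ t
  have hps : ∀ a, IsIrrCharacter T (ps a) := fun a =>
    Cfsg.Agent.OddOrderCharacters.InertiaAbelian.isIrr_mul_hom _ hψ
  have hres : ∀ a, resTo hNT (ps a) = resTo hNT ψ := by
    intro a
    funext n
    show ((a (n : G) : ℂˣ) : ℂ) * ψ ⟨n, hNT n.2⟩ = ψ ⟨n, hNT n.2⟩
    rw [hfN a n n.2, Units.val_one, one_mul]
  have h0a : ∀ a, classInner (resTo hNT (ps a)) θ ≠ 0 := fun a => by rw [hres]; exact h0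
  have hirr : ∀ a, IsIrrCharacter G (indFun T (ps a)) := fun a => irr_ind hθ hT hNT (hps a) (h0a a)
  have hdeg : ∀ a, charDegree (indFun T (ps a)) = T.index * d := by
    intro a
    have h1 := Cfsg.Agent.OddOrderCharacters.IndRes.indFun_apply_one (H := T) (ps a)
    have h2 : ps a 1 = ψ 1 := by
      show ((a ((1 : T) : G) : ℂˣ) : ℂ) * ψ 1 = ψ 1
      rw [Subgroup.coe_one, map_one, Units.val_one, one_mul]
    rw [h2, Cfsg.Agent.Blocks.Basic.irr_one_eq_charDegree hψ,
      Cfsg.Agent.Blocks.Basic.irr_one_eq_charDegree (hirr a), hd] at h1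
    exact_mod_cast h1
  let F : (G →* ℂˣ) → B := fun a => ⟨⟨indFun T (ps a), hirr a⟩, hdeg a,
    over_ind hNT hθ (hps a) (h0a a) (hirr a)⟩
  let Y := {g : T →* ℂˣ // (∀ n : N, g (Subgroup.inclusion hNT n) = 1) ∧
    ∀ t, (g t : ℂ) * ψ t = ψ t}
  let U := {f : G →* ℂˣ // ∀ t ∈ T, f t = 1}
  let Z := {h : G →* ℂˣ // ∀ t : T, (h t : ℂ) * ψ t = ψ t}
  have hY : Nat.card Y ≤ m := card_stab_le (Subgroup.inclusion hNT) hψ hm
  have hZ : Nat.card Z ≤ Nat.card U * m := by
    let R : Z → Y := fun h => ⟨h.1.comp T.subtype, fun n => hfN h.1 n n.2, fun t => h.2 t⟩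
    refine (card_le_of_fiber R (Nat.card U) fun y => ?_).trans (Nat.mul_le_mul_left _ hY)
    rcases isEmpty_or_nonempty {z : Z // R z = y} with he | ⟨⟨z₀, hz₀⟩⟩
    · rw [Nat.card_of_isEmpty]
      exact Nat.zero_le _
    · refine Nat.card_le_card_of_injective (fun z : {z : Z // R z = y} =>
        (⟨z.1.1 * z₀.1⁻¹, ?_⟩ : U)) ?_
      · intro t ht
        have h1 : R z.1 = R z₀ := z.2.trans hz₀.symm
        have h2 : z.1.1 t = z₀.1 t := DFunLike.congr_fun (congrArg Subtype.val h1) (⟨t, ht⟩ : T)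
        rw [MonoidHom.mul_apply, MonoidHom.inv_apply, h2, mul_inv_cancel]
      · intro z z' h
        have h1 : z.1.1 * z₀.1⁻¹ = z'.1.1 * z₀.1⁻¹ := congrArg Subtype.val h
        exact Subtype.ext (Subtype.ext (mul_right_cancel h1))
  refine card_le_of_fiber F _ fun b => ?_
  refine le_trans ?_ hZ
  rcases isEmpty_or_nonempty {a // F a = b} with he | ⟨⟨a₀, ha₀⟩⟩
  · rw [Nat.card_of_isEmpty]
    exact Nat.zero_le _
  · refine Nat.card_le_card_of_injective (fun a : {a // F a = b} =>
      (⟨a.1 * a₀⁻¹, ?_⟩ : Z)) ?_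
    · intro t
      have h1 : indFun T (ps a.1) = indFun T (ps a₀) := by
        have h2 : F a.1 = F a₀ := a.2.trans ha₀.symm
        exact congrArg (fun x : B => (x.1 : G → ℂ)) h2
      have h2 := ind_inj hθ hT hNT (hps a.1) (hps a₀) (h0a a.1) (h0a a₀) h1
      have h3 : ((a.1 (t : G) : ℂˣ) : ℂ) * ψ t = ((a₀ (t : G) : ℂˣ) : ℂ) * ψ t := congrFun h2 t
      rw [MonoidHom.mul_apply, MonoidHom.inv_apply, Units.val_mul]
      calc ((a.1 (t : G) : ℂˣ) : ℂ) * (((a₀ (t : G))⁻¹ : ℂˣ) : ℂ) * ψ t
          = (((a₀ (t : G))⁻¹ : ℂˣ) : ℂ) * (((a.1 (t : G) : ℂˣ) : ℂ) * ψ t) := by ring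
        _ = (((a₀ (t : G))⁻¹ * (a₀ (t : G)) : ℂˣ) : ℂ) * ψ t := by
            rw [h3, Units.val_mul]; ring
        _ = ψ t := by rw [inv_mul_cancel, Units.val_one, one_mul]
    · intro z z' h
      have h1 : z.1 * a₀⁻¹ = z'.1 * a₀⁻¹ := congrArg Subtype.val h
      exact Subtype.ext (mul_right_cancel h1)

end Cfsg.Agent.H685.Acd
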