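import Cfsg.Agent.H685.AcdW
import Cfsg.Agent.H685.AcdStruct
import Cfsg.Agent.H612.MinNormal
import Cfsg.Agent.H715.Coprime
import Cfsg.Agent.Characters.GaloisIrr

/-!
# The nonabelian case: lemmas
-/

set_option autoImplicit false
set_option linter.unusedSectionVars false

namespace Cfsg.Agent.H685.Acd

open Cfsg
open scoped ComplexConjugate commutatorElement
open Cfsg.Agent.Characters.Core
open Cfsg.Agent.OddOrderCharacters.NormalInduced (conjFn)
open Cfsg.Agent.OddOrderCharacters.IndRes (res)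
open Cfsg.Agent.OddOrderCharacters.PF9.CliffGen (resTo irr_ind ind_inj isCharacter_resTo inertia
  mem_inertia le_inertia)

universe u v

/-- An irreducible character over an invariant character of a normal subgroup. -/
theorem exists_over_normal {B : Type u} [Group B] [Fintype B] (N : Subgroup B) [hN : N.Normal]
    [Fintype N] {θ : N → ℂ} (hθ : IsIrrCharacter N θ) (hinv : ∀ b, conjFn N θ b = θ) :
    ∃ (β : B → ℂ) (e : ℕ), IsIrrCharacter B β ∧ e ≠ 0 ∧ e ^ 2 ≤ N.index ∧
      ∀ n : N, β n = e * θ n := by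
  classical
  have hN0 : (Nat.card N : ℂ) ≠ 0 := card_ne_zero_complex
  have hind : IsCharacter B (indFun N θ) :=
    Cfsg.Agent.OddOrderCharacters.IndRes.isCharacter_indFun N (isIrr_isCharacter hθ)
  have hne : indFun N θ ≠ 0 := by
    intro h
    have h1 := congrFun h 1
    rw [Cfsg.Agent.OddOrderCharacters.IndRes.indFun_apply_one] at h1
    rcases mul_eq_zero.1 h1 with h2 | h2
    · exact Subgroup.index_ne_zero_of_finite (H := N) (by exact_mod_cast h2)
    · exact isIrr_apply_one_ne_zero hθ h2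
  obtain ⟨β, hβ, h1⟩ := Cfsg.Agent.OddOrderCharacters.PF4Type.exists_irr_constituent hind hne
  rw [Cfsg.Agent.OddOrderCharacters.IndRes.classInner_indFun_left N θ
    (isIrr_isClassFunction hβ)] at h1
  have h0 : classInner (res N β) θ ≠ 0 := by
    rw [← classInner_conj_symm]
    exact (map_ne_zero _).2 h1
  have hrc : IsCharacter N (res N β) :=
    Cfsg.Agent.OddOrderCharacters.IndRes.isCharacter_res N (isIrr_isCharacter hβ)
  obtain ⟨e, he⟩ := classInner_isNat hrc (isIrr_isCharacter hθ)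
  have hθ1 := isIrr_apply_one_ne_zero hθ
  have hmul := fun n => Cfsg.Agent.OddOrderCharacters.PF9.CliffGen.res_of_invariant (N := N) hθ
    hinv hβ h0 n
  have hsm : res N β = (β 1 / θ 1) • θ := by
    funext n
    show β n = β 1 / θ 1 * θ n
    have h2 := hmul n
    field_simp
    linear_combination h2
  have hc : (e : ℂ) = β 1 / θ 1 := by
    rw [← he, hsm, classInner_smul_left, classInner_irr_self hθ, mul_one]
  have hβe : ∀ n : N, β n = e * θ n := by
    intro n
    rw [hc]
    exact congrFun hsm n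
  have he0 : e ≠ 0 := by
    rintro rfl
    rw [he] at h0
    simp at h0
  refine ⟨β, e, hβ, he0, ?_, hβe⟩
  -- the norm
  have hn1 : classInner (res N β) (res N β) = (e : ℂ) ^ 2 := by
    rw [hsm, ← hc, classInner_smul_left, classInner_smul_right, classInner_irr_self hθ,
      Complex.conj_natCast]
    ring
  have hself := classInner_irr_self hβ
  rw [classInner_def] at hn1 hself
  have hnorm : ∀ z : ℂ, z * conj z = ((Complex.normSq z : ℝ) : ℂ) := fun z => Complex.mul_conj z
  have e1 : (∑ n : N, Complex.normSq (β n)) = (Nat.card N : ℝ) * (e : ℝ) ^ 2 := by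
    have h2 : ∑ n : N, res N β n * conj (res N β n) = (Nat.card N : ℂ) * (e : ℂ) ^ 2 := by
      rw [← hn1]
      field_simp
    have h3 : ((∑ n : N, Complex.normSq (β n) : ℝ) : ℂ) =
        (((Nat.card N : ℝ) * (e : ℝ) ^ 2 : ℝ) : ℂ) := by
      push_cast
      rw [← h2]
      refine Finset.sum_congr rfl fun n _ => ?_
      rw [hnorm]
      rfl
    exact_mod_cast h3
  have e2 : (∑ b : B, Complex.normSq (β b)) = (Nat.card B : ℝ) := by
    have hB0 : (Nat.card B : ℂ) ≠ 0 := card_ne_zero_complex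
    have h2 : ∑ b : B, β b * conj (β b) = (Nat.card B : ℂ) := by
      have h3 : (Nat.card B : ℂ) * ((Nat.card B : ℂ)⁻¹ * ∑ b : B, β b * conj (β b)) =
          (Nat.card B : ℂ) * 1 := by rw [hself]
      rw [← mul_assoc, mul_inv_cancel₀ hB0, one_mul, mul_one] at h3
      exact h3
    have h3 : ((∑ b : B, Complex.normSq (β b) : ℝ) : ℂ) = ((Nat.card B : ℝ) : ℂ) := by
      push_cast
      rw [← h2]
      refine Finset.sum_congr rfl fun b _ => ?_
      rw [hnorm]
    exact_mod_cast h3
  have e3 : (∑ n : N, Complex.normSq (β n)) ≤ ∑ b : B, Complex.normSq (β b) := by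
    have h2 : (∑ n : N, Complex.normSq (β n)) =
        ∑ b ∈ Finset.univ.filter (fun b : B => b ∈ N), Complex.normSq (β b) := by
      rw [← Finset.sum_subtype_eq_sum_filter, Finset.subtype_univ]
    rw [h2]
    exact Finset.sum_le_sum_of_subset_of_nonneg (Finset.subset_univ _)
      (fun b _ _ => Complex.normSq_nonneg _)
  rw [e1, e2] at e3
  have h4 : Nat.card N * e ^ 2 ≤ Nat.card N * N.index := by
    rw [Subgroup.card_mul_index]
    exact_mod_cast e3
  exact Nat.le_of_mul_le_mul_left h4 Nat.card_pos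

/-- The same for an injective homomorphism with normal range. -/
theorem exists_over_hom {S : Type v} {B : Type u} [Group S] [Finite S] [Group B] [Finite B]
    (j : S →* B) (hj : Function.Injective j) (hjn : j.range.Normal) {α : S → ℂ}
    (hα : IsIrrCharacter S α) (hinv : ∀ (b : B) (s s' : S), j s' = b * j s * b⁻¹ → α s' = α s) :
    ∃ (β : B → ℂ) (e : ℕ), IsIrrCharacter B β ∧ e ≠ 0 ∧ e ^ 2 ≤ j.range.index ∧
      ∀ s : S, β (j s) = e * α s := by
  classical
  have := Fintype.ofFinite B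
  have := Fintype.ofFinite j.range
  let E : S ≃* j.range := MonoidHom.ofInjective hj
  have hEj : ∀ s, ((E s : j.range) : B) = j s := fun s => rfl
  have hθ : IsIrrCharacter j.range (α ∘ E.symm.toMonoidHom) :=
    isIrr_comp E.symm.toMonoidHom E.symm.surjective hα
  obtain ⟨β, e, hβ, he0, he, h⟩ := exists_over_normal j.range hθ (by
    intro b
    funext n
    show α (E.symm ⟨b * n * b⁻¹, _⟩) = α (E.symm n)
    refine hinv b _ _ ?_
    rw [← hEj, ← hEj, E.apply_symm_apply, E.apply_symm_apply])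
  refine ⟨β, e, hβ, he0, he, fun s => ?_⟩
  have h1 := h (E s)
  rw [hEj] at h1
  rw [h1]
  show (e : ℂ) * α (E.symm (E s)) = _
  rw [E.symm_apply_apply]

/-- A simple nonabelian group has trivial center. -/
theorem eq_one_of_central {S : Type u} [Group S] [IsSimpleGroup S] (hS : ¬ IsMulCommutative S)
    {z : S} (hz : ∀ x, z * x = x * z) : z = 1 := by
  rcases (inferInstance : (Subgroup.center S).Normal).eq_bot_or_eq_top with h | h
  · have h1 : z ∈ Subgroup.center S := Subgroup.mem_center_iff.2 fun x => (hz x).symm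
    rw [h] at h1
    exact h1
  · exfalso
    apply hS
    refine ⟨⟨fun a b => ?_⟩⟩
    have h1 : b ∈ Subgroup.center S := h ▸ Subgroup.mem_top b
    exact Subgroup.mem_center_iff.1 h1 a

section proj

variable {G : Type u} [Group G] {S M : Subgroup G}

/-- The projection onto a direct factor with trivial center. -/
theorem exists_proj (hMS : M ≤ S ⊔ Subgroup.centralizer (S : Set G))
    (hZ : ∀ z : S, (∀ x, z * x = x * z) → z = 1) :
    ∃ π : M →* S, (∀ (m : M) (x : S), (m : G) * x * (m : G)⁻¹ = (π m : G) * x * (π m : G)⁻¹) ∧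
      ∀ (m : M) (s : S), (m : G) = s → π m = s := by
  classical
  have hex : ∀ m : M, ∃ s : S, ∀ x : S, (m : G) * x * (m : G)⁻¹ = (s : G) * x * (s : G)⁻¹ := by
    intro m
    have h1 := hMS m.2
    have hle : S ≤ Subgroup.normalizer ((Subgroup.centralizer (S : Set G) : Subgroup G) :
        Set G) := by
      intro s hs
      rw [Subgroup.mem_normalizer_iff]
      intro k
      constructor
      · intro hk
        rw [Subgroup.mem_centralizer_iff] at hk ⊢
        intro y hy
        have h2 := hk s hs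
        rw [h2, mul_inv_cancel_right]
        exact hk y hy
      · intro hk
        rw [Subgroup.mem_centralizer_iff] at hk ⊢
        have h2 := hk s hs
        have h3 : s * k * s⁻¹ = k := by
          have h4 : s * (s * k * s⁻¹) = s * k := by rw [h2]; group
          exact mul_left_cancel h4
        rw [h3] at hk
        exact hk
    rw [← SetLike.mem_coe, Subgroup.coe_mul_of_left_le_normalizer_right S _ hle] at h1
    obtain ⟨s, hs, k, hk, hm⟩ := h1
    refine ⟨⟨s, hs⟩, fun x => ?_⟩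
    have h2 := Subgroup.mem_centralizer_iff.1 hk x x.2
    have hm' : (m : G) = s * k := hm.symm
    rw [hm']
    show s * k * x * (s * k)⁻¹ = s * x * s⁻¹
    have h3 : s * k * x * (s * k)⁻¹ = s * (k * x * k⁻¹) * s⁻¹ := by group
    rw [h3, ← h2, mul_inv_cancel_right]
  have huniq : ∀ (a b : S), (∀ x : S, (a : G) * x * (a : G)⁻¹ = (b : G) * x * (b : G)⁻¹) →
      a = b := by
    intro a b h
    have h1 : b⁻¹ * a = 1 := by
      apply hZ
      intro x
      apply Subtype.ext
      have h2 := h x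
      show ((b : G)⁻¹ * a) * x = x * ((b : G)⁻¹ * a)
      calc ((b : G)⁻¹ * a) * x = (b : G)⁻¹ * (a * x * (a : G)⁻¹) * a := by group
        _ = (b : G)⁻¹ * (b * x * (b : G)⁻¹) * a := by rw [h2]
        _ = x * ((b : G)⁻¹ * a) := by group
    rw [inv_mul_eq_one] at h1
    exact h1.symm
  choose π hπ using hex
  have hmul : ∀ a b : M, π (a * b) = π a * π b := by
    intro a b
    apply huniq
    intro x
    rw [← hπ]
    have h1 := hπ b x
    have h2 := hπ a ⟨(b : G) * x * (b : G)⁻¹, by rw [h1]; exact (π b * x * (π b)⁻¹).2⟩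
    show ((a : G) * b) * x * ((a : G) * b)⁻¹ = ((π a : G) * π b) * x * ((π a : G) * π b)⁻¹
    calc ((a : G) * b) * x * ((a : G) * b)⁻¹ = a * ((b : G) * x * (b : G)⁻¹) * (a : G)⁻¹ := by
          group
      _ = (π a : G) * ((b : G) * x * (b : G)⁻¹) * (π a : G)⁻¹ := h2
      _ = (π a : G) * ((π b : G) * x * (π b : G)⁻¹) * (π a : G)⁻¹ := by rw [h1]
      _ = _ := by group
  refine ⟨MonoidHom.mk' π hmul, hπ, fun m s hms => ?_⟩
  apply huniq
  intro x
  show ((π m : S) : G) * x * ((π m : S) : G)⁻¹ = _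
  rw [← hπ, hms]

end proj

/-- A coprime automorphism moves some irreducible character. -/
theorem exists_char_moved {G : Type u} [Group G] [Finite G] {p : ℕ} [hp : Fact p.Prime]
    {S : Subgroup G} {y : G} (hy : y ∈ Subgroup.normalizer (S : Set G))
    (hyp : ∃ k : ℕ, y ^ p ^ k = 1) (hpS : ¬ p ∣ Nat.card S) (hc : ∃ s ∈ S, y * s ≠ s * y) :
    ∃ (α : IrrCharacter S) (s : S), (α : S → ℂ) ⟨y * s * y⁻¹,
      (Subgroup.mem_normalizer_iff.1 hy s).1 s.2⟩ ≠ (α : S → ℂ) s := by
  classical
  by_contra hcon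
  push Not at hcon
  obtain ⟨s, hs, hne⟩ := hc
  apply hne
  have hfin : ∀ n : ℕ, ∀ s : S, ∃ h : y ^ n * s * (y ^ n)⁻¹ ∈ S,
      ∀ α : IrrCharacter S, (α : S → ℂ) ⟨y ^ n * s * (y ^ n)⁻¹, h⟩ = (α : S → ℂ) s := by
    intro n
    induction n with
    | zero =>
      intro s
      have h1 : y ^ 0 * s * (y ^ 0)⁻¹ = (s : G) := by simp
      exact ⟨by rw [h1]; exact s.2, fun α => congrArg α.1 (Subtype.ext h1)⟩
    | succ n ih =>
      intro s
      obtain ⟨h, hα⟩ := ih s
      have h1 : y ^ (n + 1) * s * (y ^ (n + 1))⁻¹ = y * (y ^ n * s * (y ^ n)⁻¹) * y⁻¹ := by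
        rw [pow_succ']
        group
      have h2 : y ^ (n + 1) * s * (y ^ (n + 1))⁻¹ ∈ S := by
        rw [h1]
        exact (Subgroup.mem_normalizer_iff.1 hy _).1 h
      refine ⟨h2, fun α => ?_⟩
      rw [← hα α, ← hcon α ⟨_, h⟩]
      exact congrArg α.1 (Subtype.ext h1)
  have hpow : ∀ r ∈ Subgroup.zpowers y, ∃ n : ℕ, r = y ^ n := by
    intro r hr
    rw [← mem_powers_iff_mem_zpowers] at hr
    obtain ⟨n, hn⟩ := hr
    exact ⟨n, hn.symm⟩
  have hR : IsPGroup p (Subgroup.zpowers y) := by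
    obtain ⟨k, hk⟩ := hyp
    rintro ⟨r, hr⟩
    obtain ⟨n, rfl⟩ := hpow r hr
    refine ⟨k, Subtype.ext ?_⟩
    show (y ^ n) ^ p ^ k = 1
    rw [← pow_mul, mul_comm, pow_mul, hk, one_pow]
  refine Cfsg.Agent.H715.centralize S (Subgroup.zpowers y) p hR hpS ?_ ?_ y
    (Subgroup.mem_zpowers y) s hs
  · intro r hr z hz
    obtain ⟨n, rfl⟩ := hpow r hr
    exact (hfin n ⟨z, hz⟩).1
  · intro z hz r hr
    obtain ⟨n, rfl⟩ := hpow r hr
    obtain ⟨h, hα⟩ := hfin n ⟨z, hz⟩
    have hconj : IsConj (⟨z, hz⟩ : S) ⟨y ^ n * z * (y ^ n)⁻¹, h⟩ := by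
      rw [Cfsg.Agent.Characters.GaloisIrr.isConj_iff_forall_irr]
      intro χ hχ
      exact (hα ⟨χ, hχ⟩).symm
    obtain ⟨a, ha⟩ := isConj_iff.1 hconj
    have ha' : (a : G) * z * (a : G)⁻¹ = y ^ n * z * (y ^ n)⁻¹ := congrArg Subtype.val ha
    refine ⟨a, a.2, (a : G)⁻¹ * y ^ n, ?_, by group⟩
    calc (a : G)⁻¹ * y ^ n * z = (a : G)⁻¹ * (y ^ n * z * (y ^ n)⁻¹) * y ^ n := by group
      _ = (a : G)⁻¹ * ((a : G) * z * (a : G)⁻¹) * y ^ n := by rw [ha']
      _ = z * ((a : G)⁻¹ * y ^ n) := by group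

end Cfsg.Agent.H685.Acd
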