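import Cfsg.Agent.H685.AcdCount

/-!
# The weight of the characters of degree divisible by `p`
-/

set_option autoImplicit false
set_option linter.unusedSectionVars false

namespace Cfsg.Agent.H685.Acd

open Cfsg
open scoped ComplexConjugate commutatorElement
open Cfsg.Agent.Characters.Core

universe u v

/-- The sum over the irreducible characters of degree `d` divisible by `p` of `d (L + 1) - 2 L`. -/
noncomputable def W (p L : ℕ) (G : Type u) [Group G] : ℕ :=
  ∑ᶠ χ : {χ : IrrCharacter G // p ∣ charDegree (χ : G → ℂ)},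
    (charDegree (χ.1 : G → ℂ) * (L + 1) - 2 * L)

theorem card_linear (G : Type u) [Group G] [Finite G] :
    Nat.card {χ : IrrCharacter G // charDegree (χ : G → ℂ) = 1} = Nat.card (G →* ℂˣ) := by
  symm
  refine Nat.card_congr (Equiv.ofBijective (fun f : G →* ℂˣ =>
    (⟨⟨fun g => (f g : ℂ), Cfsg.Agent.Characters.Linear.isIrrCharacter_hom f⟩,
      Cfsg.Agent.Blocks.Basic.charDegree_of_eq (by simp)⟩ :
      {χ : IrrCharacter G // charDegree (χ : G → ℂ) = 1})) ⟨?_, ?_⟩)
  · intro f f' h
    refine MonoidHom.ext fun g => Units.ext ?_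
    exact congrFun (congrArg (fun x : {χ : IrrCharacter G // charDegree (χ : G → ℂ) = 1} =>
      (x.1 : G → ℂ)) h) g
  · rintro ⟨χ, hχ⟩
    obtain ⟨f, hf⟩ := Cfsg.Agent.Characters.Linear.exists_hom_of_isIrrCharacter χ.2 (by
      rw [Cfsg.Agent.Blocks.Basic.irr_one_eq_charDegree χ.2, hχ, Nat.cast_one])
    exact ⟨f, Subtype.ext (Subtype.ext hf.symm)⟩

theorem W_eq (p L : ℕ) (G : Type u) [Group G] [Fintype (IrrCharacter G)]
    [DecidablePred fun χ : IrrCharacter G => p ∣ charDegree (χ : G → ℂ)] :
    W p L G = ∑ χ ∈ Finset.univ.filter (fun χ : IrrCharacter G => p ∣ charDegree (χ : G → ℂ)),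
      (charDegree (χ : G → ℂ) * (L + 1) - 2 * L) := by
  unfold W
  rw [finsum_eq_sum_of_fintype]
  rw [← Finset.sum_subtype_eq_sum_filter, Finset.subtype_univ]

/-- A lower bound from a set of characters of one degree. -/
theorem card_mul_le {p L d : ℕ} {G : Type u} [Group G] [Finite G] (hd : p ∣ d)
    (Q : IrrCharacter G → Prop) :
    Nat.card {χ : IrrCharacter G // charDegree (χ : G → ℂ) = d ∧ Q χ} * (d * (L + 1) - 2 * L) ≤
      W p L G := by
  classical
  have hfG : Finite (IrrCharacter G) := finite_irr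
  have := Fintype.ofFinite (IrrCharacter G)
  rw [W_eq, Nat.card_eq_fintype_card, Fintype.card_subtype]
  calc (Finset.univ.filter fun χ : IrrCharacter G => charDegree (χ : G → ℂ) = d ∧ Q χ).card *
        (d * (L + 1) - 2 * L)
      = ∑ χ ∈ (Finset.univ.filter fun χ : IrrCharacter G => charDegree (χ : G → ℂ) = d ∧ Q χ),
        (charDegree (χ : G → ℂ) * (L + 1) - 2 * L) := by
        rw [Finset.sum_congr rfl (g := fun _ => d * (L + 1) - 2 * L)]
        · rw [Finset.sum_const, smul_eq_mul]
        · intro χ hχ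
          rw [(Finset.mem_filter.1 hχ).2.1]
    _ ≤ _ := by
        refine Finset.sum_le_sum_of_subset ?_
        intro χ hχ
        rw [Finset.mem_filter] at hχ ⊢
        exact ⟨hχ.1, hχ.2.1.symm ▸ hd⟩

theorem charDegree_comp {G : Type u} {H : Type v} [Group G] [Group H] (f : G →* H) (χ : H → ℂ) :
    charDegree (χ ∘ f) = charDegree χ := by
  unfold charDegree
  rw [Function.comp_apply, map_one]

/-- Inflation. -/
theorem W_le_of_surjective {p L : ℕ} {G : Type u} {H : Type u} [Group G] [Group H] [Finite G]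
    (f : G →* H) (hf : Function.Surjective f) : W p L H ≤ W p L G := by
  classical
  have : Finite H := Finite.of_surjective f hf
  have hfG : Finite (IrrCharacter G) := finite_irr
  have := Fintype.ofFinite (IrrCharacter G)
  have hfH : Finite (IrrCharacter H) := finite_irr
  have := Fintype.ofFinite (IrrCharacter H)
  rw [W_eq, W_eq]
  let i : IrrCharacter H → IrrCharacter G := fun χ => ⟨(χ : H → ℂ) ∘ f, isIrr_comp f hf χ.2⟩
  have hi : Function.Injective i := by
    intro χ χ' h
    apply Subtype.ext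
    funext x
    obtain ⟨g, rfl⟩ := hf x
    exact congrFun (congrArg Subtype.val h) g
  have hdeg : ∀ χ, charDegree (i χ : G → ℂ) = charDegree (χ : H → ℂ) := fun χ =>
    charDegree_comp f χ
  calc ∑ χ ∈ Finset.univ.filter (fun χ : IrrCharacter H => p ∣ charDegree (χ : H → ℂ)),
      (charDegree (χ : H → ℂ) * (L + 1) - 2 * L)
      = ∑ χ ∈ (Finset.univ.filter (fun χ : IrrCharacter H => p ∣ charDegree (χ : H → ℂ))).map
        ⟨i, hi⟩, (charDegree (χ : G → ℂ) * (L + 1) - 2 * L) := by
        rw [Finset.sum_map]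
        refine Finset.sum_congr rfl fun χ _ => ?_
        show _ = charDegree (i χ : G → ℂ) * (L + 1) - 2 * L
        rw [hdeg]
    _ ≤ _ := by
        refine Finset.sum_le_sum_of_subset ?_
        intro χ hχ
        rw [Finset.mem_map] at hχ
        obtain ⟨ξ, hξ, rfl⟩ := hχ
        rw [Finset.mem_filter] at hξ ⊢
        refine ⟨Finset.mem_univ _, ?_⟩
        show p ∣ charDegree (i ξ : G → ℂ)
        rw [hdeg]
        exact hξ.2

/-- Linear characters of a quotient by a subgroup of the derived group. -/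
theorem card_hom_quotient (G : Type u) [Group G] [Finite G] (M : Subgroup G) [M.Normal]
    (hM : M ≤ commutator G) : Nat.card (G ⧸ M →* ℂˣ) = Nat.card (G →* ℂˣ) := by
  refine Nat.card_congr ⟨fun f => f.comp (QuotientGroup.mk' M), fun f => QuotientGroup.lift M f ?_,
    fun f => ?_, fun f => ?_⟩
  · intro x hx
    exact MonoidHom.mem_ker.1 (Abelianization.commutator_subset_ker f (hM hx))
  · apply MonoidHom.ext
    intro x
    obtain ⟨g, rfl⟩ := QuotientGroup.mk'_surjective M x
    rfl
  · apply MonoidHom.ext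
    intro x
    rfl

/-- The hypothesis on the average degree in terms of `W`. -/
theorem lt_of_acd {G : Type u} [Group G] [Finite G] {p L : ℕ} (hp : 2 ≤ p)
    (h : (∑ᶠ χ : {χ : IrrCharacter G // charDegree (χ : G → ℂ) = 1 ∨ p ∣ charDegree (χ : G → ℂ)},
      charDegree (χ.1 : G → ℂ)) * (L + 1) < 2 * L *
        Nat.card {χ : IrrCharacter G // charDegree (χ : G → ℂ) = 1 ∨ p ∣ charDegree (χ : G → ℂ)}) :
    W p L G < (L - 1) * Nat.card (G →* ℂˣ) := by
  classical
  have hfG : Finite (IrrCharacter G) := finite_irr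
  have := Fintype.ofFinite (IrrCharacter G)
  rw [finsum_eq_sum_of_fintype,
    show (∑ χ : {χ : IrrCharacter G // charDegree (χ : G → ℂ) = 1 ∨ p ∣ charDegree (χ : G → ℂ)},
      charDegree (χ.1 : G → ℂ)) = ∑ χ ∈ Finset.univ.filter (fun χ : IrrCharacter G =>
      charDegree (χ : G → ℂ) = 1 ∨ p ∣ charDegree (χ : G → ℂ)), charDegree (χ : G → ℂ) by
      rw [← Finset.sum_subtype_eq_sum_filter, Finset.subtype_univ],
    Nat.card_eq_fintype_card, Fintype.card_subtype, Finset.filter_or] at h
  have hdisj : Disjoint (Finset.univ.filter (fun χ : IrrCharacter G => charDegree (χ : G → ℂ) = 1))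
      (Finset.univ.filter (fun χ : IrrCharacter G => p ∣ charDegree (χ : G → ℂ))) := by
    rw [Finset.disjoint_left]
    intro χ h1 h2
    rw [Finset.mem_filter] at h1 h2
    rw [h1.2] at h2
    have := Nat.le_of_dvd one_pos h2.2
    omega
  rw [Finset.sum_union hdisj, Finset.card_union_of_disjoint hdisj] at h
  have h1 : ∑ χ ∈ Finset.univ.filter (fun χ : IrrCharacter G => charDegree (χ : G → ℂ) = 1),
      charDegree (χ : G → ℂ) = Nat.card (G →* ℂˣ) := by
    rw [Finset.sum_congr rfl (g := fun _ => 1) (fun χ hχ => (Finset.mem_filter.1 hχ).2),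
      Finset.sum_const, smul_eq_mul, mul_one, ← card_linear, Nat.card_eq_fintype_card,
      Fintype.card_subtype]
  have h1' : (Finset.univ.filter (fun χ : IrrCharacter G => charDegree (χ : G → ℂ) = 1)).card =
      Nat.card (G →* ℂˣ) := by
    rw [← card_linear, Nat.card_eq_fintype_card, Fintype.card_subtype]
  have h2 : W p L G + 2 * L *
      (Finset.univ.filter (fun χ : IrrCharacter G => p ∣ charDegree (χ : G → ℂ))).card =
      (∑ χ ∈ Finset.univ.filter (fun χ : IrrCharacter G => p ∣ charDegree (χ : G → ℂ)),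
        charDegree (χ : G → ℂ)) * (L + 1) := by
    rw [W_eq, Finset.sum_mul]
    have h3 : 2 * L * (Finset.univ.filter
        (fun χ : IrrCharacter G => p ∣ charDegree (χ : G → ℂ))).card =
        ∑ χ ∈ Finset.univ.filter (fun χ : IrrCharacter G => p ∣ charDegree (χ : G → ℂ)),
          2 * L := by
      rw [Finset.sum_const, smul_eq_mul, mul_comm]
    rw [h3, ← Finset.sum_add_distrib]
    refine Finset.sum_congr rfl fun χ hχ => ?_
    have h4 := (Finset.mem_filter.1 hχ).2
    have h5 : 0 < charDegree (χ : G → ℂ) := Cfsg.Agent.Blocks.Basic.charDegree_pos χ.2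
    have h6 : 2 ≤ charDegree (χ : G → ℂ) := hp.trans (Nat.le_of_dvd h5 h4)
    have h7 : 2 * L ≤ charDegree (χ : G → ℂ) * (L + 1) := Nat.mul_le_mul h6 (Nat.le_succ L)
    omega
  rw [h1, h1'] at h
  set s2 := ∑ χ ∈ Finset.univ.filter (fun χ : IrrCharacter G => p ∣ charDegree (χ : G → ℂ)),
        charDegree (χ : G → ℂ)
  set c2 := (Finset.univ.filter (fun χ : IrrCharacter G => p ∣ charDegree (χ : G → ℂ))).card
  set n := Nat.card (G →* ℂˣ)
  have h8 : n * (L + 1) + (W p L G + 2 * L * c2) < 2 * L * n + 2 * L * c2 := by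
    rw [h2]
    calc n * (L + 1) + s2 * (L + 1) = (n + s2) * (L + 1) := by ring
      _ < _ := h
      _ = _ := by ring
  have h9 : n * (L + 1) + W p L G < 2 * L * n := by omega
  rcases Nat.eq_zero_or_pos L with hL | hL
  · subst hL
    simp at h9
  · obtain ⟨l, rfl⟩ : ∃ l, L = l + 1 := ⟨L - 1, by omega⟩
    rw [Nat.add_sub_cancel]
    have h10 : n * (l + 1 + 1) + l * n = 2 * (l + 1) * n := by ring
    omega

end Cfsg.Agent.H685.Acd
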