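import Mathlib
import Cfsg.Prelude.Def_LieTypeChar
import Cfsg.Agent.Nodes.RGDTypeA
import Cfsg.Agent.H762.Defs

/-!
helper685 (task 176, S3263): `HasThree` for `PSL_n` in characteristic two.

* `node_core` : `a² = 1`, `n = a b a`, `n a n⁻¹ = b` give `n a n⁻¹ = a n a`;
* `hasThree_psl`.
-/

set_option autoImplicit false

namespace Cfsg.Agent.H685.Three

open Matrix CoxeterSystem Cfsg.Agent.ChevalleyStructure.CoxeterGeom Cfsg.Agent.Tits.Roots
open Cfsg.Agent.Nodes Cfsg.Agent.Nodes.Reps Cfsg.Agent.Nodes.BNOf Cfsg.Agent.Nodes.RGDLib Cfsg.Agent.Nodes.RootsA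
open Cfsg.Agent.LieRecognition.BNCox (cA)
open Cfsg.Agent.TitsThree.KSideA (tv tv_of_ne tv_add tv_zero tv_neg tv_comm tv_commute diag2n_eq)

/-- `a² = 1`, `n = a b a`, `n a n⁻¹ = b` give `n a n⁻¹ = a n a`. -/
theorem node_core {G : Type*} [Group G] {a b n : G} (h2 : a * a = 1) (hn : n = a * b * a)
    (hb : n * a * n⁻¹ = b) : n * a * n⁻¹ = a * n * a := by
  rw [hb, hn]
  calc b = (a * a) * b * (a * a) := by rw [h2, one_mul, mul_one]
    _ = a * (a * b * a) * a := by group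

section PSL

variable {n : ℕ} {F : Type*} [Field F]

theorem neg_one_eq (h2 : (2 : F) = 0) : (-1 : F) = 1 := by
  linear_combination (-1 : F) * h2

theorem tv_sq {a b : Fin (n + 1)} (h2 : (2 : F) = 0) : tv a b (1 : F) * tv a b 1 = 1 := by
  rw [← tv_add, one_add_one_eq_two, h2, tv_zero]

theorem ns_conj (h2 : (2 : F) = 0) (i : Fin n) :
    RGDTypeA.ns n F i * tv i.castSucc i.succ 1 * (RGDTypeA.ns n F i)⁻¹ = tv i.succ i.castSucc 1 := by
  have hne : i.castSucc ≠ i.succ := (Fin.castSucc_lt_succ).ne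
  rw [(RGDTypeA.mono_ns i).conj_tv hne, Equiv.swap_apply_left, Equiv.swap_apply_right]
  congr 1
  have e1 : (RGDTypeA.ns n F i).1 i.succ i.castSucc = -1 := by
    rw [RGDTypeA.apply_eq_smul, RGDTypeA.ns, RGDTypeA.nn_smul hne one_ne_zero, if_neg hne.symm, if_pos rfl,
      Pi.single_eq_same]
    norm_num
  have e2 : (RGDTypeA.ns n F i).1 i.castSucc i.succ = 1 := by
    rw [RGDTypeA.apply_eq_smul, RGDTypeA.ns, RGDTypeA.nn_smul hne one_ne_zero, if_pos rfl, Pi.single_eq_same, one_mul]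
  rw [e1, e2, neg_one_eq h2]
  norm_num

theorem ns_eq (h2 : (2 : F) = 0) (i : Fin n) :
    RGDTypeA.ns n F i = tv i.castSucc i.succ 1 * tv i.succ i.castSucc 1 * tv i.castSucc i.succ 1 := by
  rw [RGDTypeA.ns, RGDTypeA.nn, inv_one, neg_one_eq h2]

theorem tv_ne (i : Fin n) : tv i.succ i.castSucc (1 : F) ≠ tv i.castSucc i.succ 1 := by
  intro e
  have hne : i.castSucc ≠ i.succ := (Fin.castSucc_lt_succ).ne
  have h1 := congrArg (fun g : SpecialLinearGroup (Fin (n + 1)) F => g.1 i.castSucc i.succ) e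
  simp only [RGDTypeA.tv_val hne, RGDTypeA.tv_val hne.symm, Matrix.add_apply, Matrix.one_apply_ne hne,
    Matrix.single_apply_same, zero_add] at h1
  rw [Matrix.single_apply_of_ne] at h1
  · exact zero_ne_one h1
  · rintro ⟨h3, -⟩
    exact hne h3.symm

theorem nodeThree_psl (h2 : (2 : F) = 0) :
    H762.NodeThree (fun i => RGDTypeA.pr n F (RGDTypeA.ns n F i))
      (fun x => (RGDTypeA.X F x).map (RGDTypeA.pr n F)) := by
  intro i
  refine ⟨RGDTypeA.pr n F (tv i.castSucc i.succ 1), Subgroup.mem_map_of_mem _ ?_, ?_, ?_, ?_⟩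
  · rw [RGDTypeA.X_sr]
    exact RGDTypeA.tv_mem_XX _ _ _
  · rw [← map_mul, tv_sq h2, map_one]
  · intro h1
    have h3 : tv i.castSucc i.succ (1 : F) ∈ (RGDTypeA.pr n F).ker := h1
    rw [RGDTypeA.ker_pr, Subgroup.mem_center_iff] at h3
    have h4 := h3 (RGDTypeA.ns n F i)
    have h5 := ns_conj h2 i
    rw [h4, mul_inv_cancel_right] at h5
    exact tv_ne i h5.symm
  · change RGDTypeA.pr n F (RGDTypeA.ns n F i) * _ * (RGDTypeA.pr n F (RGDTypeA.ns n F i))⁻¹ =
      _ * RGDTypeA.pr n F (RGDTypeA.ns n F i) * _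
    rw [← map_inv, ← map_mul, ← map_mul, ← map_mul, ← map_mul,
      node_core (tv_sq h2) (ns_eq h2 i) (ns_conj h2 i)]

end PSL

theorem two_eq_zero {F : Type*} [Field F] [CharP F 2] : (2 : F) = 0 := by
  have := CharP.cast_eq_zero F 2
  exact_mod_cast this

theorem hasThree_PSL {F : Type*} [Field F] [Finite F] (n : ℕ) [CharP F 2] :
    H762.HasThree (Matrix.ProjectiveSpecialLinearGroup (Fin (n + 1)) F) :=
  have : Finite (cA n).Group := RootsA.finite_W (cA n).toCoxeterSystem (RootsA.isCartan n)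
  have : Fact (Nat.Prime 2) := ⟨Nat.prime_two⟩
  ⟨n, cA n, RootsA.AA n, RootsA.isCartan n, _, _, _, ‹Finite (cA n).Group›,
    RGDTypeA.rgd_psl _ _, RGDTypeA.G1_psl_eq_top _ _, nodeThree_psl two_eq_zero⟩

/-- **`PSL_n` of characteristic two.** -/
theorem hasThree_psl {G : Type*} [Group G] (hG : Cfsg.IsPSLChar 2 G) : H762.HasThree G := by
  obtain ⟨F, _, _, _, n, hn, -, ⟨e⟩⟩ := hG
  obtain ⟨n, rfl⟩ : ∃ k, n = k + 1 := ⟨n - 1, by omega⟩
  exact (hasThree_PSL n).of_equiv e.symm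

end Cfsg.Agent.H685.Three
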