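import Cfsg.Agent.Nodes.WittInst
import Cfsg.Agent.H685.ThreePSL

/-!
helper685 (task 177, S3263): `HasThree` for the symplectic, unitary and even-dimensional orthogonal groups of
characteristic two.
-/

set_option autoImplicit false
set_option linter.unusedSectionVars false

namespace Cfsg.Agent.H685.Three

open Cfsg Cfsg.Agent.ChevalleyStructure.CoxeterGeom Cfsg.Agent.Tits.Roots
open Cfsg.Agent.Nodes
open Cfsg.Agent.Nodes.Comb Cfsg.Agent.Nodes.Reps Cfsg.Agent.Nodes.WittRoot Cfsg.Agent.Nodes.BNOf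
open Cfsg.Agent.Nodes.RGDLib Cfsg.Agent.Nodes.WittAll
open Cfsg.Agent.TitsThree Cfsg.Agent.TitsThree.Siegel Cfsg.Agent.TitsThree.WittFrame
  Cfsg.Agent.TitsThree.WittWeyl Cfsg.Agent.TitsThree.FrameCN

/-! ### The relations in a frame -/

section FrameLevel

variable {F : Type*} [Field F] {V : Type*} [AddCommGroup V] [Module F V] {H : HForm F V}
  {ι : Type*} [DecidableEq ι] (Fr : Frame H ι)

theorem frame_X_sq (h2 : (2 : F) = 0) (x y : ι × Bool) : Fr.X x y 1 * Fr.X x y 1 = 1 := by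
  rw [← Fr.X_add, one_add_one_eq_two, h2, Fr.X_zero]

theorem frame_nX_conj {x y : ι × Bool} (hxy : x.1 ≠ y.1) :
    nX Fr x y 1 * Fr.X x y 1 * (nX Fr x y 1)⁻¹ = Fr.X (neg y) (neg x) (-(1 : F)⁻¹) := by
  rw [nX_conj_X Fr hxy one_ne_zero]
  congr 1
  norm_num

theorem frame_X_ne {x y : ι × Bool} (hxy : x.1 ≠ y.1) (s : F) : Fr.X x y 1 ≠ Fr.X (neg y) (neg x) s := by
  intro e
  have h1 : Fr.X x y 1 (Fr.b (neg y)) = Fr.X (neg y) (neg x) s (Fr.b (neg y)) := by rw [e]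
  rw [X_apply_neg Fr hxy, X_apply_of_ne Fr (x := neg y) (y := neg x) hxy.symm (ne_neg_self (neg y))
    (fun h => hxy (by
      have h3 := congrArg Prod.fst h
      simpa using h3.symm)), one_smul, add_eq_left] at h1
  have h3 := Fr.hb_self_neg x
  rw [h1, H.zero_left] at h3
  exact Fr.η_ne _ h3.symm

theorem frame_Z_sq (h2 : (2 : F) = 0) (x : ι × Bool) {p : Fr.Adm} (hw : H.h p.w p.w = 0) :
    Fr.Z x p * Fr.Z x p = 1 := by
  have hpp : p * p = 1 := by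
    apply Frame.Adm.ext
    · show p.w + p.w = 0
      rw [← two_smul F, h2, zero_smul]
    · show p.c + p.c - H.ε⁻¹ * H.h p.w p.w = 0
      rw [hw, mul_zero, sub_zero, ← two_mul, h2, zero_mul]
  rw [← Fr.Z_mul, hpp, Fr.Z_one]

theorem sigma_c (h2 : (2 : F) = 0) {p : Fr.Adm} (hw : H.h p.w p.w = 0) : H.σ p.c = H.ε * p.c := by
  have h1 := p.herm
  rw [hw] at h1
  linear_combination h1 - (H.ε * p.c) * h2

theorem frame_nZ_eq (h2 : (2 : F) = 0) (x : ι × Bool) {p : Fr.Adm} (hc : p.c ≠ 0) (hw : H.h p.w p.w = 0) :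
    nZ Fr x p = Fr.Z x p * Fr.Z (neg x) (Frame.Adm.smul (-(Fr.η x * (H.σ p.c)⁻¹)) p) * Fr.Z x p := by
  have hε := H.ε_ne
  have h1 : H.ε * p.c * (H.σ p.c)⁻¹ = 1 := by
    rw [sigma_c Fr h2 hw]
    exact mul_inv_cancel₀ (mul_ne_zero hε hc)
  rw [nZ, h1, Frame.Adm.one_smul]

theorem frame_nZ_conj (h2 : (2 : F) = 0) (x : ι × Bool) {p : Fr.Adm} (hc : p.c ≠ 0) (hw : H.h p.w p.w = 0) :
    nZ Fr x p * Fr.Z x p * (nZ Fr x p)⁻¹ = Fr.Z (neg x) (Frame.Adm.smul (-(Fr.η x * (H.σ p.c)⁻¹)) p) := by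
  have hε := H.ε_ne
  rw [nZ_conj_Z Fr x p hc p]
  have h3 : refl Fr p hc p = p := by
    apply Frame.Adm.ext
    · rw [refl_w, hw, mul_zero, zero_smul, add_zero]
    · rfl
  rw [h3]
  congr 2
  rw [sigma_c Fr h2 hw, mul_inv]
  linear_combination (Fr.η x * H.ε⁻¹ * p.c⁻¹) * h2

end FrameLevel

/-! ### Models -/

section Model

open Cfsg.Agent.Nodes.TypeC
open Cfsg.Agent.Nodes.WittRGD (rg_sr)

variable {F : Type*} [Field F] {V : Type*} [AddCommGroup V] [Module F V] {H : HForm F V} {n : ℕ}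
  {Fr : Frame H (Fin n)} {K : Type*} [Group K] (M : Model Fr K)

/-- a lineStab element is not a type I element -/
theorem not_line_X {m : ℕ} (Fr : Frame H (Fin m)) {x y : Fin m × Bool} (hxy : x.1 ≠ y.1) {a : F}
    (ha : Fr.X x y 1 (Fr.b (neg y)) = a • Fr.b (neg y)) : False := by
  rw [X_apply_neg Fr hxy] at ha
  have h1 : H.h (Fr.b (neg y) + (1 : F) • Fr.b x) (Fr.b (neg x)) = H.h (a • Fr.b (neg y)) (Fr.b (neg x)) := by rw [ha]
  rw [H.add_left, H.smul_left, H.smul_left, Fr.hb_of_ne (x := neg y) (y := neg x) hxy.symm, mul_zero, zero_add,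
    Fr.hb_self_neg, one_mul] at h1
  exact Fr.η_ne _ h1

theorem not_line_Z {m : ℕ} (Fr : Frame H (Fin m)) {x : Fin m × Bool} {q : Fr.Adm} (hq : q.c ≠ 0) {a : F}
    (ha : Fr.Z x q (Fr.b (neg x)) = a • Fr.b (neg x)) : False := by
  rw [Z_apply_neg] at ha
  have hη := Fr.η_ne x
  have h1 : H.h (Fr.b (neg x) + Fr.η x • q.w + (q.c * Fr.η x) • Fr.b x) (Fr.b (neg x)) =
      H.h (a • Fr.b (neg x)) (Fr.b (neg x)) := by rw [ha]
  rw [H.add_left, H.add_left, H.smul_left, H.smul_left, H.smul_left, Fr.hb_self, Fr.h0' _ (Fr.ok_mem q.ok),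
    Fr.hb_self_neg, mul_zero, mul_zero, zero_add, zero_add] at h1
  exact mul_ne_zero (mul_ne_zero hq hη) (Fr.η_ne _) h1

/-- **The nodes of a model of type `C`.** -/
theorem nodeThree_C {p : ℕ} (hA : AmbT Fr p M.I) (h2 : (2 : F) = 0) {p0 : Fr.Adm} (hp0 : p0.c ≠ 0)
    (hw : H.h p0.w p0.w = 0) :
    H762.NodeThree (fun i => M.φ ⟨Nodes.WittRGD.nn Fr p0 i, nn_mem hA p0 i⟩) (WittModel.X M) := by
  intro i
  -- the element at the level of the frame
  obtain ⟨g, hg, hgX, b, hgg, hn, hb, hl⟩ : ∃ (g : V ≃ₗ[F] V) (_ : g ∈ M.I) (_ : g ∈ WittRoot.rg Fr (sr i))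
      (b : V ≃ₗ[F] V), g * g = 1 ∧ Nodes.WittRGD.nn Fr p0 i = g * b * g ∧
      Nodes.WittRGD.nn Fr p0 i * g * (Nodes.WittRGD.nn Fr p0 i)⁻¹ = b ∧ ∃ v, ∀ a : F, g v ≠ a • v := by
    by_cases hi : (i : ℕ) + 1 < n
    · have hnx : nx i = (⟨i + 1, hi⟩, false) := by unfold nx; rw [dif_pos hi]
      have hne : ((i, true) : Fin n × Bool).1 ≠ (nx i).1 := by rw [hnx]; simp [Fin.ext_iff]
      have hnn : Nodes.WittRGD.nn Fr p0 i = nX Fr (i, true) (nx i) 1 := by unfold Nodes.WittRGD.nn; rw [if_pos hi]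
      refine ⟨Fr.X (i, true) (nx i) 1, M.hX _ _ _, ?_, Fr.X (neg (nx i)) (neg (i, true)) (-(1 : F)⁻¹),
        frame_X_sq Fr h2 _ _, ?_, ?_, Fr.b (neg (nx i)), fun a ha => not_line_X Fr hne ha⟩
      · rw [rg_sr, PG_ne Fr hne]
        exact ⟨1, rfl⟩
      · rw [hnn, nX]
      · rw [hnn, frame_nX_conj Fr hne]
    · have hnx : nx i = (i, true) := by unfold nx; rw [dif_neg hi]
      have hnn : Nodes.WittRGD.nn Fr p0 i = nZ Fr (i, true) p0 := by unfold Nodes.WittRGD.nn; rw [if_neg hi]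
      refine ⟨Fr.Z (i, true) p0, M.hZ _ _, ?_,
        Fr.Z (neg (i, true)) (Frame.Adm.smul (-(Fr.η (i, true) * (H.σ p0.c)⁻¹)) p0),
        frame_Z_sq Fr h2 _ hw, ?_, ?_, Fr.b (neg (i, true)), fun a ha => not_line_Z Fr hp0 ha⟩
      · rw [rg_sr, hnx, PG_self]
        exact ⟨p0, rfl⟩
      · rw [hnn, frame_nZ_eq Fr h2 _ hp0 hw]
      · rw [hnn, frame_nZ_conj Fr h2 _ hp0 hw]
  obtain ⟨v, hv⟩ := hl
  refine ⟨M.φ ⟨g, hg⟩, WittModel.mem_X_of M hg hgX, ?_, ?_, ?_⟩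
  · rw [← map_mul]
    have h1 : (⟨g, hg⟩ : M.I) * ⟨g, hg⟩ = 1 := Subtype.ext hgg
    rw [h1, map_one]
  · intro h1
    obtain ⟨a, ha⟩ := M.ker v ⟨g, hg⟩ h1
    exact hv a ha
  · show M.φ ⟨Nodes.WittRGD.nn Fr p0 i, nn_mem hA p0 i⟩ * M.φ ⟨g, hg⟩ *
      (M.φ ⟨Nodes.WittRGD.nn Fr p0 i, nn_mem hA p0 i⟩)⁻¹ =
      M.φ ⟨g, hg⟩ * M.φ ⟨Nodes.WittRGD.nn Fr p0 i, nn_mem hA p0 i⟩ * M.φ ⟨g, hg⟩
    rw [← map_inv, ← map_mul, ← map_mul, ← map_mul, ← map_mul]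
    congr 1
    apply Subtype.ext
    exact node_core hgg hn hb

theorem hasThree_C (hA : AmbT Fr 2 M.I) [Finite V] [CharP F 2] {p0 : Fr.Adm} (hp0 : p0.c ≠ 0)
    (hw : H.h p0.w p0.w = 0) (hn : 0 < n) : H762.HasThree K := by
  have : Fact (Nat.Prime 2) := ⟨Nat.prime_two⟩
  exact ⟨n, CoxeterMatrix.B n, TypeC.A n, TypeC.isCartan n, _, _, _, finite_W (CoxeterMatrix.B n).toCoxeterSystem,
    rgdC_model M hA hp0 _, WittModel.G1_eq_top _ hn _, nodeThree_C M hA two_eq_zero hp0 hw⟩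

end Model

/-! ### Unitary and symplectic groups -/

open Cfsg.Agent.Nodes.WittU Cfsg.Agent.Nodes.WittInst

theorem hasThree_PSU {F : Type*} [Field F] [Fintype F] {q N : ℕ} (hF : Fintype.card F = q ^ 2) (hN : 3 ≤ N)
    [CharP F 2] : H762.HasThree (PSU N F q) := by
  have : Fact (Nat.Prime 2) := ⟨Nat.prime_two⟩
  obtain ⟨m, hm⟩ : ∃ m, N = 2 * m ∨ N = 2 * m + 1 := ⟨N / 2, by omega⟩
  obtain ⟨W, -⟩ := exists_wframe hF hm
  obtain ⟨p0, hp0, hw⟩ := exists_adm hF W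
  exact hasThree_C (KInstU.model hF hN W) (AmbT.of_amb (amb_U hF W) 2) hp0 (by rw [hw]; exact HForm.zero_left _ _)
    (by omega)

theorem hasThree_PSp {F : Type*} [Field F] [Finite F] {m : ℕ} (hm : 1 ≤ m) [CharP F 2] :
    H762.HasThree (PSp m F) := by
  have : Fact (Nat.Prime 2) := ⟨Nat.prime_two⟩
  exact hasThree_C (KInstSp.model m F) (AmbT.of_amb amb_Sp 2) (p0 := SpIdent.adm 1) one_ne_zero
    (HForm.zero_left _ _) hm

/-! ### Orthogonal groups -/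

section Orthogonal

open QuadraticMap
open Cfsg.Agent.LieClassical Cfsg.Agent.LieClassical.OrthCore Cfsg.Agent.LieClassical.OrthTrans
open Cfsg.Agent.LieClassical.OrthSimple Cfsg.Agent.LieClassical.OrthFinite
open Cfsg.Agent.LieClassical.OrthForms
open Cfsg.Agent.TitsThree.WBridge Cfsg.Agent.TitsThree.KSideO Cfsg.Agent.TitsThree.StdData

variable {F : Type*} [Field F] {m : ℕ}

theorem hasThree_PO_minus [Finite F] [CharP F 2] (a b : F)
    (hab : ∀ z₁ z₂ : F, z₁ ^ 2 + a * z₁ * z₂ + b * z₂ ^ 2 = 0 → z₁ = 0 ∧ z₂ = 0)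
    (hm : 2 ≤ m) : H762.HasThree (Cfsg.POmega F (Cfsg.quadFormMinus m F a b)) := by
  have : Fact (Nat.Prime 2) := ⟨Nat.prime_two⟩
  have h2 : (2 : F) = 0 := two_eq_zero
  rw [← coe_minusForm]
  have hG : Good (minusForm m F a b) := by
    apply good_of_finite (nondeg_minusForm m F a b hab)
    rw [Module.finrank_fintype_fun_eq_card, Fintype.card_sum, Fintype.card_sum, Fintype.card_fin,
      Fintype.card_fin]
    omega
  have hp : ((embMinus m F a b hab).ngt ⟨(1, 0), -nf a b (1, 0), rfl⟩).c ≠ 0 := by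
    change (1 : F)⁻¹ * (-nf a b (1, 0)) ≠ 0
    simp [nf]
  have hA : AmbT (toFrame (wminus m F a b hab)) 2 (E (minusForm m F a b)) :=
    ambT_O _ fun g hg hg2 hb => fixp_minus a b hab h2 hm hG hg hg2 hb
  refine hasThree_C (model (wminus m F a b hab) hG ⟨_, hp⟩) hA hp ?_ (by omega)
  rw [HO_h, polar_self', h2, zero_mul]

end Orthogonal

section Plus

open Cfsg.Agent.TitsThree.SiegelGen
open Cfsg.Agent.LieClassical Cfsg.Agent.LieClassical.OrthCore Cfsg.Agent.LieClassical.OrthTrans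
open Cfsg.Agent.LieClassical.OrthSimple Cfsg.Agent.LieClassical.OrthFinite
open Cfsg.Agent.LieClassical.OrthForms
open Cfsg.Agent.TitsThree.WBridge Cfsg.Agent.TitsThree.KSideO Cfsg.Agent.TitsThree.StdData

variable {F : Type*} [Field F] {m : ℕ}

variable {ι : Type} [Fintype ι] [DecidableEq ι] {Q : QuadraticForm F (ι → F)} {n : ℕ}

theorem nodeThree_D (W : WFrame (PO Q) (n + 2)) (hG : Good Q) (hA : Amb (toFrame W) (E Q)) (h2 : (2 : F) = 0) :
    H762.NodeThree (fun i => toPOmega hG ⟨WittRGDD.nn (toFrame W) i, WittRGDD.nn_mem hA i⟩) (XD W (toPOmega hG)) := by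
  intro i
  have hne : ((i, true) : Fin (n + 2) × Bool).1 ≠ (TypeD.nx i).1 := TypeD.ok_nx i
  have hg : (toFrame W).X (i, true) (TypeD.nx i) 1 ∈ E Q := X_mem W _ _ _
  have hnn : WittRGDD.nn (toFrame W) i = nX (toFrame W) (i, true) (TypeD.nx i) 1 := rfl
  have hgg := frame_X_sq (toFrame W) h2 (i, true) (TypeD.nx i)
  refine ⟨toPOmega hG ⟨(toFrame W).X (i, true) (TypeD.nx i) 1, hg⟩, ?_, ?_, ?_, ?_⟩
  · refine Subgroup.mem_map_of_mem _ (Subgroup.mem_subgroupOf.2 ?_)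
    show (toFrame W).X (i, true) (TypeD.nx i) 1 ∈ WittRGDD.rg (toFrame W) (sr i)
    rw [WittRGDD.rg_sr]
    exact ⟨1, rfl⟩
  · rw [← map_mul]
    have h1 : (⟨(toFrame W).X (i, true) (TypeD.nx i) 1, hg⟩ : E Q) * ⟨(toFrame W).X (i, true) (TypeD.nx i) 1, hg⟩ = 1 :=
      Subtype.ext hgg
    rw [h1, map_one]
  · intro h1
    have h3 : (⟨(toFrame W).X (i, true) (TypeD.nx i) 1, hg⟩ : E Q) ∈ Subgroup.center (E Q) :=
      ker_toPOmega hG h1
    rw [Subgroup.mem_center_iff] at h3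
    have h4 := congrArg Subtype.val (h3 ⟨WittRGDD.nn (toFrame W) i, WittRGDD.nn_mem hA i⟩)
    have h5 : nX (toFrame W) (i, true) (TypeD.nx i) 1 * (toFrame W).X (i, true) (TypeD.nx i) 1 =
      (toFrame W).X (i, true) (TypeD.nx i) 1 * nX (toFrame W) (i, true) (TypeD.nx i) 1 := h4
    have h6 := frame_nX_conj (toFrame W) hne
    rw [h5, mul_inv_cancel_right] at h6
    exact frame_X_ne (toFrame W) hne _ h6
  · show toPOmega hG ⟨WittRGDD.nn (toFrame W) i, WittRGDD.nn_mem hA i⟩ * toPOmega hG ⟨_, hg⟩ *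
      (toPOmega hG ⟨WittRGDD.nn (toFrame W) i, WittRGDD.nn_mem hA i⟩)⁻¹ =
      toPOmega hG ⟨_, hg⟩ * toPOmega hG ⟨WittRGDD.nn (toFrame W) i, WittRGDD.nn_mem hA i⟩ * toPOmega hG ⟨_, hg⟩
    rw [← map_inv, ← map_mul, ← map_mul, ← map_mul, ← map_mul]
    congr 1
    apply Subtype.ext
    show WittRGDD.nn (toFrame W) i * _ * (WittRGDD.nn (toFrame W) i)⁻¹ = _ * WittRGDD.nn (toFrame W) i * _
    rw [hnn]
    exact node_core hgg rfl (frame_nX_conj (toFrame W) hne)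

theorem hasThree_PO_plus {F : Type*} [Field F] [Finite F] [CharP F 2] (n : ℕ) :
    H762.HasThree (Cfsg.POmega F (Cfsg.quadFormPlus (n + 3) F)) := by
  have : Fact (Nat.Prime 2) := ⟨Nat.prime_two⟩
  rw [← coe_plusForm]
  have hG : Good (plusForm (n + 3) F) := by
    apply good_of_finite (nondeg_plusForm (n + 3) F)
    rw [Module.finrank_fintype_fun_eq_card, Fintype.card_sum, Fintype.card_fin]
    omega
  exact ⟨n + 3, TypeD.M (n + 1), TypeD.A (n + 1), TypeD.isCartan (n + 1), _, _, _,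
    TypeD.finite_W (TypeD.M (n + 1)).toCoxeterSystem,
    rgdD_model (wplus (n + 3) F) hG (amb_plus _) (adm_plus _) _,
    G1D_eq_top (wplus (n + 3) F) (toPOmega hG) (toPOmega_surjective hG) (adm_plus _) _,
    nodeThree_D (wplus (n + 3) F) hG (amb_plus _) two_eq_zero⟩

end Plus

/-- **The symplectic, unitary and even-dimensional orthogonal groups of characteristic two.** -/
theorem hasThree_witt {G : Type*} [Group G] (hG : Cfsg.IsPSpChar 2 G ∨ Cfsg.IsPSUChar 2 G ∨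
    Cfsg.IsPOmegaPlusChar 2 G ∨ Cfsg.IsPOmegaMinusChar 2 G) : H762.HasThree G := by
  rcases hG with hG | hG | hG | hG
  · obtain ⟨F, _, _, _, m, hm, -, ⟨e⟩⟩ := hG
    exact (hasThree_PSp (by omega)).of_equiv e.symm
  · obtain ⟨F, _, _, _, n, q, hF, hn, -, ⟨e⟩⟩ := hG
    exact (hasThree_PSU hF hn).of_equiv e.symm
  · obtain ⟨F, _, _, _, m, hm, ⟨e⟩⟩ := hG
    obtain ⟨n, rfl⟩ : ∃ n, m = n + 3 := ⟨m - 3, by omega⟩
    exact (hasThree_PO_plus n).of_equiv e.symm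
  · obtain ⟨F, _, _, _, m, a, b, hm, hab, ⟨e⟩⟩ := hG
    exact (hasThree_PO_minus a b hab (by omega)).of_equiv e.symm

end Cfsg.Agent.H685.Three
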